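import Cfsg.Agent.SingerTwo.Start

/-!
# The abelian groups in the case of four fixed points
-/

set_option autoImplicit false
set_option linter.unusedSectionVars false

namespace Cfsg.Agent.SingerTwo

open Subgroup

theorem homocyclic {Q : Type*} [Group Q] [Finite Q] (hQ : IsPGroup 2 Q)
    (hcomm : ∀ a b : Q, a * b = b * a) (ρ : MulAut Q)
    (hinv : Nat.card {v : Q // v * v = 1} = 4) (hmove : ∀ v : Q, v * v = 1 → v ≠ 1 → ρ v ≠ v) :
    ∃ n : ℕ, 1 ≤ n ∧
      Nonempty (Q ≃* Multiplicative (ZMod (2 ^ n)) × Multiplicative (ZMod (2 ^ n))) := by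
  classical
  letI : CommGroup Q := { (inferInstance : Group Q) with mul_comm := hcomm }
  haveI : Fact (Nat.Prime 2) := ⟨Nat.prime_two⟩
  have hker : Nat.card (powMonoidHom 2 : Q →* Q).ker = 4 := by
    rw [← hinv]
    exact Nat.card_congr (Equiv.subtypeEquivRight fun v => by
      rw [MonoidHom.mem_ker, powMonoidHom_apply, pow_two])
  -- the torsion layers have at most `4 ^ k` elements
  have hlayer : ∀ k, Nat.card (powMonoidHom (2 ^ k) : Q →* Q).ker ≤ 4 ^ k := by
    intro k
    induction k with
    | zero =>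
      have hbot : (powMonoidHom (2 ^ 0) : Q →* Q).ker = ⊥ := by
        rw [eq_bot_iff]; intro x hx; simpa using hx
      rw [hbot, Subgroup.card_bot, pow_zero]
    | succ k ih =>
      let f := (powMonoidHom 2 : Q →* Q).comp (powMonoidHom (2 ^ (k + 1)) : Q →* Q).ker.subtype
      rw [← (MonoidHom.ker f).card_mul_index, Subgroup.index_ker, pow_succ' 4 k]
      refine Nat.mul_le_mul ?_ (le_trans ?_ ih)
      · rw [← hker, ← Subgroup.card_map_of_injective (Subgroup.subtype_injective _)]
        refine Subgroup.card_le_of_le ?_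
        rintro _ ⟨x, hx, rfl⟩
        exact hx
      · refine Subgroup.card_le_of_le ?_
        rintro _ ⟨⟨x, hx⟩, rfl⟩
        show (x ^ 2) ^ 2 ^ k = 1
        rw [← pow_mul, ← pow_succ']
        exact hx
  obtain ⟨e, he⟩ := IsPGroup.iff_card.1 hQ
  have hex : ∃ m, ∀ x : Q, x ^ 2 ^ m = 1 := ⟨e, fun x => by rw [← he]; exact pow_card_eq_one'⟩
  obtain ⟨v, hv, hv1⟩ : ∃ v : Q, v * v = 1 ∧ v ≠ 1 := by
    by_contra hno
    push Not at hno
    haveI : Subsingleton {v : Q // v * v = 1} :=
      ⟨fun a b => Subtype.ext ((hno _ a.2).trans (hno _ b.2).symm)⟩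
    have := Finite.card_le_one_iff_subsingleton.2 (inferInstance : Subsingleton {v : Q // v * v = 1})
    omega
  obtain ⟨m, hm, hmin⟩ : ∃ m, (∀ x : Q, x ^ 2 ^ (m + 1) = 1) ∧ ∃ x : Q, x ^ 2 ^ m ≠ 1 := by
    rcases hcase : Nat.find hex with _ | m
    · have := Nat.find_spec hex v
      rw [hcase] at this
      exact absurd (by simpa using this) hv1
    · refine ⟨m, hcase ▸ Nat.find_spec hex, ?_⟩
      have := Nat.find_min hex (hcase ▸ Nat.lt_succ_self m : m < Nat.find hex)
      push Not at this
      exact this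
  obtain ⟨x, hx⟩ := hmin
  set N := 2 ^ (m + 1) with hN
  have hxN : x ^ N = 1 := hm x
  have hyN : ρ x ^ N = 1 := hm _
  haveI : NeZero N := ⟨by positivity⟩
  let pw : Q → Multiplicative (ZMod N) → Q := fun z a => z ^ (Multiplicative.toAdd a).val
  have hpw : ∀ z : Q, z ^ N = 1 → ∀ a b, pw z (a * b) = pw z a * pw z b := fun z hz a b => by
    show z ^ (Multiplicative.toAdd a + Multiplicative.toAdd b).val = _
    rw [ZMod.val_add, ← pow_add, ← pow_eq_pow_mod _ hz]
  let Φ : Multiplicative (ZMod N) × Multiplicative (ZMod N) →* Q :=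
    MonoidHom.mk' (fun a => pw x a.1 * pw (ρ x) a.2) fun a b => by
      rw [Prod.fst_mul, Prod.snd_mul, hpw x hxN, hpw _ hyN, mul_mul_mul_comm]
  set w := x ^ 2 ^ m with hw
  have hw2 : w * w = 1 := by rw [hw, ← pow_add, ← mul_two, ← pow_succ, hm]
  have hw1 : w ≠ 1 := hx
  have hρw : ρ w ≠ w := hmove w hw2 hw1
  have hρw1 : ρ w ≠ 1 := fun e0 => hw1 (ρ.injective (e0.trans (map_one ρ).symm))
  have hodd : ∀ (z : Q) (k : ℕ), z * z = 1 → z ^ k = if Even k then 1 else z := by
    intro z k hz
    obtain ⟨r, rfl | rfl⟩ := Nat.even_or_odd' k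
    · rw [if_pos (even_two_mul r), pow_mul, pow_two, hz, one_pow]
    · rw [if_neg (Nat.not_even_two_mul_add_one r), pow_succ, pow_mul, pow_two, hz, one_pow, one_mul]
  have hρw2 : ρ w * ρ w = 1 := by rw [← map_mul, hw2, map_one]
  have key : ∀ i j : ℕ, x ^ i * ρ x ^ j = 1 → ∀ k ≤ m + 1, 2 ^ k ∣ i ∧ 2 ^ k ∣ j := by
    intro i j hij k
    induction k with
    | zero => intro _; simp
    | succ k ih =>
      intro hk
      obtain ⟨⟨i', rfl⟩, ⟨j', rfl⟩⟩ := ih (by omega)
      have h1 : w ^ i' * ρ w ^ j' = 1 := by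
        rw [hw, map_pow, ← pow_mul, ← pow_mul, show 2 ^ m * i' = 2 ^ k * i' * 2 ^ (m - k) by
            rw [mul_right_comm, ← pow_add, Nat.add_sub_cancel' (by omega : k ≤ m)],
          show 2 ^ m * j' = 2 ^ k * j' * 2 ^ (m - k) by
            rw [mul_right_comm, ← pow_add, Nat.add_sub_cancel' (by omega : k ≤ m)],
          pow_mul, pow_mul _ (2 ^ k * j'), ← mul_pow, hij, one_pow]
      rw [hodd w i' hw2, hodd _ j' hρw2] at h1
      have : Even i' ∧ Even j' := by
        by_cases hi : Even i' <;> by_cases hj : Even j' <;> simp only [hi, hj, if_true, if_false,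
          one_mul, mul_one] at h1
        · exact ⟨hi, hj⟩
        · exact absurd h1 hρw1
        · exact absurd h1 hw1
        · exact absurd (mul_left_cancel (h1.trans hw2.symm)) hρw
      rw [pow_succ]
      exact ⟨mul_dvd_mul_left _ (even_iff_two_dvd.1 this.1),
        mul_dvd_mul_left _ (even_iff_two_dvd.1 this.2)⟩
  have hinj : Function.Injective Φ := by
    rw [injective_iff_map_eq_one]
    intro a ha
    obtain ⟨h1, h2⟩ := key _ _ ha (m + 1) le_rfl
    have hz : ∀ u : ZMod N, N ∣ u.val → u = 0 := fun u hu =>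
      (ZMod.val_eq_zero u).1 (Nat.eq_zero_of_dvd_of_lt hu (ZMod.val_lt u))
    exact Prod.ext (hz _ h1) (hz _ h2)
  have hcard : Nat.card Q ≤ Nat.card (Multiplicative (ZMod N) × Multiplicative (ZMod N)) := by
    have htop : (powMonoidHom N : Q →* Q).ker = ⊤ := eq_top_iff.2 fun y _ => hm y
    have := hlayer (m + 1)
    rw [← hN, htop, Subgroup.card_top] at this
    refine this.trans (le_of_eq ?_)
    rw [Nat.card_prod, Nat.card_congr Multiplicative.toAdd, Nat.card_zmod, hN, ← mul_pow]
    norm_num
  exact ⟨m + 1, by omega, ⟨(MulEquiv.ofBijective Φ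
    ((Nat.bijective_iff_injective_and_card _).2 ⟨hinj, le_antisymm
      (Nat.card_le_card_of_injective _ hinj) hcard⟩)).symm⟩⟩

end Cfsg.Agent.SingerTwo
namespace Cfsg.Agent.SingerTwo

open Subgroup

/-- An automorphism of period three moving something permutes three involutions transitively. -/
theorem three_cycle {Q : Type*} [Group Q] [Finite Q] (V : Subgroup Q) (hV : Nat.card V = 4) (g : MulAut Q)
    (hg : ∀ x ∈ V, g x ∈ V) (hg3 : g ^ 3 = 1) (hne : ∃ v ∈ V, g v ≠ v) :
    (∀ v ∈ V, v ≠ 1 → g v ≠ v) ∧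
      ∀ x ∈ V, ∀ y ∈ V, x ≠ 1 → y ≠ 1 → ∃ k : ℕ, (g ^ k) x = y := by
  haveI : Fact (Nat.Prime 3) := ⟨Nat.prime_three⟩
  classical
  have hmove : ∀ v ∈ V, v ≠ 1 → g v ≠ v := by
    intro v hv hv1 hfix
    obtain ⟨a, ha, hag⟩ := hne
    let S := {x : Q // x ∈ V ∧ g x ≠ x}
    let f : Equiv.Perm S := Equiv.ofBijective (fun x => ⟨g x.1, hg _ x.2.1, fun e => x.2.2
      (g.injective e)⟩) (Finite.injective_iff_bijective.1 fun x y e =>
        Subtype.ext (g.injective (congrArg Subtype.val e)))
    have hd : 3 ∣ Nat.card S := by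
      refine dvd_of_free f (Equiv.ext fun x => Subtype.ext ?_) fun x e =>
        x.2.2 (congrArg Subtype.val e)
      rw [pow_succ', pow_succ', pow_one]
      show g (g (g x.1)) = x.1
      rw [← MulAut.mul_apply, ← MulAut.mul_apply, ← pow_two, ← pow_succ, hg3]
      rfl
    have hcard : Nat.card S ≤ 2 := by
      let ι : Option (Option S) → V := fun o => match o with
        | none => 1
        | some none => ⟨v, hv⟩
        | some (some x) => ⟨x.1, x.2.1⟩
      have hι : Function.Injective ι := by
        rintro (_ | _ | x) (_ | _ | y) e <;> have e' := congrArg Subtype.val e <;>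
          first | rfl | (simp only [ι] at e') | skip
        · exact absurd e'.symm hv1
        · exact absurd (by rw [← e']; exact map_one g) y.2.2
        · exact absurd e' hv1
        · exact absurd (by rw [← e']; exact hfix) y.2.2
        · exact absurd (by rw [e']; exact map_one g) x.2.2
        · exact absurd (by rw [e']; exact hfix) x.2.2
        · rw [Subtype.ext e']
      haveI : Fintype S := Fintype.ofFinite S
      have := Nat.card_le_card_of_injective ι hι
      rw [hV, Nat.card_eq_fintype_card, Fintype.card_option, Fintype.card_option,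
        ← Nat.card_eq_fintype_card] at this
      omega
    have : 0 < Nat.card S := @Nat.card_pos S ⟨⟨a, ha, hag⟩⟩ _
    have := Nat.le_of_dvd this hd
    omega
  refine ⟨hmove, fun x hx y hy hx1 hy1 => ?_⟩
  by_contra hno
  push Not at hno
  let ι : Option (Option (Fin 3)) → V := fun o => match o with
    | none => 1
    | some none => ⟨y, hy⟩
    | some (some i) => ⟨(g ^ (i : ℕ)) x, by
        induction (i : ℕ) with
        | zero => exact hx
        | succ k ih => rw [pow_succ', MulAut.mul_apply]; exact hg _ ih⟩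
  have hne1 : ∀ k : ℕ, (g ^ k) x ≠ 1 := fun k e =>
    hx1 ((g ^ k).injective (e.trans (map_one (g ^ k)).symm))
  have hι : Function.Injective ι := by
    rintro (_ | _ | i) (_ | _ | j) e <;> have e' := congrArg Subtype.val e <;>
      first | rfl | (simp only [ι] at e') | skip
    · exact absurd e'.symm hy1
    · exact absurd e'.symm (hne1 _)
    · exact absurd e' hy1
    · exact absurd e'.symm (hno _)
    · exact absurd e' (hne1 _)
    · exact absurd e' (hno _)
    · congr 2
      by_contra hij
      have h1 : g x ≠ x := hmove x hx hx1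
      have h2 : (g ^ 2) x ≠ x := fun e2 => h1 (by
        have h3 := congrArg g e2
        rw [← MulAut.mul_apply, ← pow_succ', hg3] at h3
        exact h3.symm)
      have h3 : (g ^ 2) x ≠ g x := fun e2 => h1 (g.injective (by
        rw [pow_two, MulAut.mul_apply] at e2; exact e2))
      fin_cases i <;> fin_cases j <;>
        simp only [Fin.val_zero, Fin.val_one, Fin.val_two, pow_zero, pow_one, MulAut.one_apply] at e' <;>
        first
          | exact hij rfl | exact h1 e' | exact h1 e'.symm | exact h2 e' | exact h2 e'.symm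
          | exact h3 e' | exact h3 e'.symm
  have := Nat.card_le_card_of_injective ι hι
  rw [hV] at this
  simp [Nat.card_eq_fintype_card] at this

end Cfsg.Agent.SingerTwo
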