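import Cfsg.Agent.SingerTwo.Target

/-!
# From a transitive automorphism to the field, and the final statement
-/

set_option autoImplicit false
set_option linter.unusedSectionVars false

namespace Cfsg.Agent.SingerTwo

open Subgroup

variable {Q : Type*} [Group Q] [Finite Q]

theorem exists_sing (hQ : IsPGroup 2 Q) {n : ℕ} (hn : 2 ≤ n) (α ρ : MulAut Q) (C : Subgroup Q)
    (hα : ∀ x, α (α x) = x) (hc : ∀ x, α (ρ x) = ρ (α x)) (hρ : ρ ^ (2 ^ n - 1) = 1)
    (hC : ∀ x, x ∈ C ↔ α x = x) (h2 : ∀ x ∈ C, x * x = 1) (hcard : Nat.card C = 2 ^ n)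
    (htr : ∀ x y : Q, x ∈ C → y ∈ C → x ≠ 1 → y ≠ 1 → ∃ k : ℕ, (ρ ^ k) x = y) :
    ∃ (K : Type) (_ : Field K) (_ : Fintype K) (l : K) (κ : Q → K),
      Fintype.card K = 2 ^ n ∧ (2 : K) = 0 ∧ Sing Q K l α ρ C κ := by
  classical
  have hcomm : ∀ a b : C, a * b = b * a := fun a b => by
    have hi : ∀ c : C, c⁻¹ = c := fun c =>
      inv_eq_of_mul_eq_one_left (Subtype.ext (h2 _ c.2))
    calc a * b = (a * b)⁻¹ := (hi _).symm
      _ = b * a := by rw [mul_inv_rev, hi, hi]
  letI : CommGroup C := { (inferInstance : Group C) with mul_comm := hcomm }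
  have hρC : ∀ x ∈ C, ρ x ∈ C := fun x hx => (hC _).2 (by rw [hc, (hC x).1 hx])
  let r : AddMonoid.End (Additive C) :=
    AddMonoidHom.mk' (fun a => Additive.ofMul ⟨ρ (Additive.toMul a : C), hρC _ (Additive.toMul a).2⟩)
      fun a b => congrArg Additive.ofMul (Subtype.ext (map_mul ρ _ _))
  have hr : ∀ k a, ((Additive.toMul ((r ^ k) a) : C) : Q) = (ρ ^ k) (Additive.toMul a : C) := fun k => by
    induction k with
    | zero => intro a; rfl
    | succ k ih =>
      intro a
      rw [pow_succ', pow_succ']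
      show ρ ((Additive.toMul ((r ^ k) a) : C) : Q) = _
      rw [ih]; rfl
  haveI : Nontrivial C := Finite.one_lt_card_iff_nontrivial.1 (by
    rw [hcard]; exact Nat.one_lt_two_pow (by omega))
  obtain ⟨K, _, l, κ, hK, hκ⟩ := exists_field (M := Additive C)
    (fun a => congrArg Additive.ofMul (Subtype.ext (h2 _ (Additive.toMul a).2))) r
    (fun a b ha hb => by
      obtain ⟨k, hk⟩ := htr _ _ (Additive.toMul a).2 (Additive.toMul b).2
        (fun e => ha (Additive.toMul.injective (Subtype.ext e)))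
        (fun e => hb (Additive.toMul.injective (Subtype.ext e)))
      exact ⟨k, Additive.toMul.injective (Subtype.ext ((hr k a).trans hk))⟩)
  haveI := hK.fin
  letI : Fintype K := Fintype.ofFinite K
  have hcK : Nat.card K = 2 ^ n :=
    (Nat.card_congr κ.toEquiv).symm.trans hcard
  let κ' : Q → K := fun x => if hx : x ∈ C then κ (Additive.ofMul ⟨x, hx⟩) else 0
  have hκ' : ∀ x (hx : x ∈ C), κ' x = κ (Additive.ofMul ⟨x, hx⟩) := fun x hx => dif_pos hx
  refine ⟨K, inferInstance, inferInstance, l, κ', by rw [← Nat.card_eq_fintype_card, hcK], hK.two,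
    hK, ?_, hQ, hα, hc, by rw [hcK]; exact hρ, hC, ?_, ?_, ?_, ?_⟩
  · by_contra hno
    push Not at hno
    have hle : Fintype.card K ≤ ({0, 1} : Finset K).card := Finset.card_le_card fun x _ => by
      by_cases hx : x = 0
      · simp [hx]
      · simp [hno x hx]
    rw [← Nat.card_eq_fintype_card, hcK] at hle
    have h4 : 4 ≤ 2 ^ n := le_trans (by norm_num) (Nat.pow_le_pow_right (by norm_num) hn)
    have := Finset.card_le_two (a := (0 : K)) (b := 1)
    omega
  · intro a ha b hb
    rw [hκ' a ha, hκ' b hb, hκ' _ (C.mul_mem ha hb), ← map_add]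
    rfl
  · intro a ha e
    rw [hκ' a ha, ← map_zero κ] at e
    exact congrArg (fun z : Additive C => ((Additive.toMul z : C) : Q)) (κ.injective e)
  · intro k
    refine ⟨(Additive.toMul (κ.symm k) : C), (Additive.toMul (κ.symm k)).2, ?_⟩
    rw [hκ' _ (Additive.toMul (κ.symm k)).2]
    exact κ.apply_symm_apply k
  · intro a ha
    rw [hκ' a ha, hκ' _ (hρC a ha), ← hκ]
    rfl

/-- A group with an involution and a commuting transitive automorphism, if not abelian. -/
theorem classify {K : Type} [Field K] [Fintype K] {l : K} {α ρ : MulAut Q} {C : Subgroup Q}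
    {κ : Q → K} {n : ℕ} (hn : 2 ≤ n) (hcK : Fintype.card K = 2 ^ n) (h2 : (2 : K) = 0)
    (h : Sing Q K l α ρ C κ) (hnab : ¬ ∀ a b : Q, a * b = b * a) :
    (∃ (F : Type) (_ : Field F) (_ : Fintype F), Fintype.card F = (2 ^ n) ^ 2 ∧
        ∀ S : Sylow 2 (Cfsg.PSU 3 F (2 ^ n)),
          Nonempty (Q ≃* ↥(S : Subgroup (Cfsg.PSU 3 F (2 ^ n))))) ∨
      (∃ (F : Type) (_ : Field F) (_ : Fintype F), Fintype.card F = 2 ^ n ∧
        ∃ S : Sylow 2 (Matrix.ProjectiveSpecialLinearGroup (Fin 3) F),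
          Nonempty (Q ≃* ↥(S : Subgroup (Matrix.ProjectiveSpecialLinearGroup (Fin 3) F)))) := by
  rcases h.main with hab | hspec
  · exact absurd hab hnab
  rcases h.coords hnab hspec with hc | ⟨d, hd, hc⟩
  · exact Or.inr ⟨K, inferInstance, inferInstance, hcK,
      iso_of_linear h2 hcK (by omega) hspec.1 hc⟩
  · exact Or.inl (iso_of_unitary h2 hcK (by omega) hspec.1 d hd hc)

end Cfsg.Agent.SingerTwo
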