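import Mathlib

/-!
# A field attached to a semiregular automorphism, and homogeneous biadditive maps
-/

set_option autoImplicit false
set_option linter.unusedSectionVars false

namespace Cfsg.Agent.SingerTwo

open Polynomial

/-- A finite field of characteristic two with a chosen generator of the multiplicative group. -/
structure Gen (K : Type*) [Field K] (l : K) : Prop where
  fin : Finite K
  two : (2 : K) = 0
  gen : ∀ k : K, k ≠ 0 → ∃ i : ℕ, l ^ i = k

variable {K : Type*} [Field K] {l : K}

namespace Gen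

variable (hK : Gen K l)

include hK

theorem charP : CharP K 2 := CharTwo.of_one_ne_zero_of_two_eq_zero one_ne_zero hK.two

theorem add_self (a : K) : a + a = 0 := by linear_combination a * hK.two

theorem neg_eq (a : K) : -a = a := neg_eq_of_add_eq_zero_right (hK.add_self a)

theorem sqrt (a : K) : ∃ b : K, b ^ 2 = a := by
  haveI := hK.charP
  haveI := hK.fin
  haveI : ExpChar K 2 := ExpChar.prime Nat.prime_two
  obtain ⟨b, hb⟩ := (PerfectRing.bijective_frobenius (R := K) (p := 2)).surjective a
  exact ⟨b, by simpa [frobenius_def] using hb⟩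

theorem sq_inj {a b : K} (h : a ^ 2 = b ^ 2) : a = b := by
  have : (a + b) ^ 2 = 0 := by linear_combination h + (b ^ 2 + a * b) * hK.two
  linear_combination eq_zero_of_pow_eq_zero this - b * hK.two

theorem add_sq (a b : K) : (a + b) ^ 2 = a ^ 2 + b ^ 2 := by linear_combination a * b * hK.two

/-- A biadditive map of weight two in both variables together is bilinear. -/
theorem hom_lemma (h : K →+ K →+ K) (hh : ∀ t a b, h (t * a) (t * b) = t ^ 2 * h a b) (a b : K) :
    h a b = a * b * h 1 1 := by
  have key : ∀ a, h a 1 = a * h 1 1 := by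
    set χ : K → K := fun a => h a 1 - a * h 1 1 with hχ
    set ψ : K → K := fun b => h 1 b - b * h 1 1 with hψ
    have hψa : ∀ a b, ψ (a + b) = ψ a + ψ b := fun a b => by simp [hψ]; ring
    have hrel : ∀ b : K, b ≠ 0 → b ^ 2 * χ b⁻¹ = ψ b := fun b hb => by
      have := hh b b⁻¹ 1
      rw [mul_inv_cancel₀ hb, mul_one] at this
      simp only [hχ, hψ, this]
      field_simp
    have hψ1 : ψ 1 = 0 := by simp [hψ]
    have hψ0 : ψ 0 = 0 := by simp [hψ]
    have hsq : ∀ b, ψ (b ^ 2) = 0 := by
      intro b
      rcases eq_or_ne b 0 with rfl | hb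
      · simp [hψ0]
      rcases eq_or_ne b 1 with rfl | hb1
      · simp [hψ1]
      have hb' : b + 1 ≠ 0 := fun e => hb1 (by linear_combination e - hK.two)
      have hb2 : b ^ 2 + b ≠ 0 := by
        rw [show b ^ 2 + b = b * (b + 1) by ring]; exact mul_ne_zero hb hb'
      have e1 := hrel b hb
      have e2 := hrel (b + 1) hb'
      rw [hψa, hψ1, add_zero] at e2
      have e3 := hrel (b ^ 2 + b) hb2
      have einv : (b ^ 2 + b)⁻¹ = b⁻¹ + (b + 1)⁻¹ := by
        field_simp
        linear_combination (-b) * hK.two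
      have hχa : ∀ u v, χ (u + v) = χ u + χ v := fun u v => by simp [hχ]; ring
      rw [einv, hχa, hψa] at e3
      linear_combination -e3 + (b + 1) ^ 2 * e1 + b ^ 2 * e2 + (b ^ 2 + b) * ψ b * hK.two
    intro a
    rcases eq_or_ne a 0 with rfl | ha
    · simp
    obtain ⟨r, hr⟩ := hK.sqrt a⁻¹
    have h1 := hrel a⁻¹ (inv_ne_zero ha)
    rw [inv_inv, ← hr, hsq] at h1
    have h2 : χ a = 0 := (mul_eq_zero.1 h1).resolve_left (pow_ne_zero _ (by rw [hr]; exact inv_ne_zero ha))
    exact sub_eq_zero.1 h2
  rcases eq_or_ne b 0 with rfl | hb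
  · simp
  have := hh b (a * b⁻¹) 1
  rw [show b * (a * b⁻¹) = a by field_simp, mul_one, key] at this
  rw [this]
  field_simp

/-- Equivariance for the generator gives homogeneity. -/
theorem homogeneous {U V : Type*} [AddCommGroup U] [AddCommGroup V] [Module K U] [Module K V]
    (f : U →+ V →+ K) (hf : ∀ u v, f (l • u) (l • v) = l ^ 2 * f u v) (t : K) (u : U) (v : V) :
    f (t • u) (t • v) = t ^ 2 * f u v := by
  rcases eq_or_ne t 0 with rfl | ht
  · simp
  obtain ⟨i, rfl⟩ := hK.gen t ht
  induction i generalizing u v with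
  | zero => simp
  | succ i ih =>
    rcases eq_or_ne (l ^ i) 0 with h0 | h0
    · rw [pow_succ, h0]; simp
    rw [pow_succ', mul_smul, mul_smul, hf, ih u v h0]
    ring

/-- An equivariant biadditive map is bilinear. -/
theorem bilinear {U V : Type*} [AddCommGroup U] [AddCommGroup V] [Module K U] [Module K V]
    (f : U →+ V →+ K) (hf : ∀ u v, f (l • u) (l • v) = l ^ 2 * f u v) (a b : K) (u : U) (v : V) :
    f (a • u) (b • v) = a * b * f u v := by
  let h : K →+ K →+ K :=
    AddMonoidHom.mk' (fun a => AddMonoidHom.mk' (fun b => f (a • u) (b • v)) fun b c => by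
      rw [add_smul, map_add]) fun a c => AddMonoidHom.ext fun b => by
        show f ((a + c) • u) (b • v) = _ + _
        simp [add_smul]
  have := hK.hom_lemma h (fun t a b => by
    show f ((t * a) • u) ((t * b) • v) = t ^ 2 * f (a • u) (b • v)
    rw [mul_smul, mul_smul, hK.homogeneous f hf]) a b
  simpa [h] using this

/-- A module structure on a group carrying an endomorphism that is an extension of two copies of
the field. -/
theorem exists_action {U : Type*} [AddCommGroup U] (hU : ∀ u : U, u + u = 0)
    (e : AddMonoid.End U) {m : ℕ} (hm : 1 ≤ m) (he : e ^ (2 ^ m) = e) (φ : U →+ U)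
    (hφ : ∀ u, φ (e u) = e (φ u)) (ψ : U → K)
    (hψa : ∀ u v, φ u = 0 → φ v = 0 → ψ (u + v) = ψ u + ψ v) (hψ : ∀ u, φ u = 0 → ψ (e u) = l * ψ u)
    (hψ0 : ∀ u, φ u = 0 → ψ u = 0 → u = 0) (hφ2 : ∀ u, φ (φ u) = 0) :
    ∃ θ : K →+* AddMonoid.End U, θ l = e := by
  haveI := hK.fin
  have hch : ∀ f : AddMonoid.End U, f + f = 0 := fun f => AddMonoidHom.ext fun u => hU (f u)
  rcases subsingleton_or_nontrivial U with hs | hn
  · let θ : K →+* AddMonoid.End U :=
      { toFun := fun _ => e
        map_one' := AddMonoidHom.ext fun u => Subsingleton.elim _ _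
        map_mul' := fun _ _ => AddMonoidHom.ext fun u => Subsingleton.elim _ _
        map_zero' := AddMonoidHom.ext fun u => Subsingleton.elim _ _
        map_add' := fun _ _ => AddMonoidHom.ext fun u => Subsingleton.elim _ _ }
    exact ⟨θ, rfl⟩
  haveI : CharP (AddMonoid.End U) 2 := by
    refine CharTwo.of_one_ne_zero_of_two_eq_zero (fun h => ?_) ?_
    · obtain ⟨u, hu⟩ := exists_ne (0 : U)
      exact hu (DFunLike.congr_fun h u)
    · rw [← one_add_one_eq_two]; exact hch 1
  haveI : Fact (Nat.Prime 2) := ⟨Nat.prime_two⟩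
  have hker : ∀ P : ℤ[X], aeval l P = 0 → aeval e P = 0 := by
    intro P hP
    have hcomm : ∀ (P : ℤ[X]) u, φ (aeval e P u) = aeval e P (φ u) := by
      intro P
      induction P using Polynomial.induction_on' with
      | add p q hp hq =>
        intro u
        rw [map_add]
        show φ (aeval e p u + aeval e q u) = aeval e p (φ u) + aeval e q (φ u)
        rw [map_add, hp, hq]
      | monomial i z =>
        intro u
        rw [aeval_monomial]
        induction i generalizing u with
        | zero => simp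
        | succ i ih =>
          rw [pow_succ, ← mul_assoc]
          show φ ((algebraMap ℤ (AddMonoid.End U) z * e ^ i) (e u)) = _
          rw [ih, hφ]
          rfl
    have hval : ∀ (P : ℤ[X]) u, φ u = 0 → ψ (aeval e P u) = aeval l P * ψ u := by
      intro P
      induction P using Polynomial.induction_on' with
      | add p q hp hq =>
        intro u hu
        rw [map_add, map_add]
        show ψ (aeval e p u + aeval e q u) = _
        rw [hψa _ _ (by rw [hcomm, hu, map_zero]) (by rw [hcomm, hu, map_zero]), hp u hu, hq u hu,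
          add_mul]
      | monomial i z =>
        intro u hu
        rw [aeval_monomial, aeval_monomial]
        induction i generalizing u with
        | zero =>
          have h0 : ψ 0 = 0 := by
            have := hψa 0 0 (map_zero φ) (map_zero φ)
            rw [add_zero] at this
            linear_combination -this
          simp only [pow_zero, mul_one, eq_intCast]
          show ψ (z • u) = (z : K) * ψ u
          obtain ⟨w, rfl | rfl⟩ := Int.even_or_odd' z
          · rw [mul_comm, mul_zsmul, two_zsmul, hU, smul_zero, h0]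
            push_cast
            rw [hK.two]; ring
          · rw [add_zsmul, one_zsmul, mul_comm, mul_zsmul, two_zsmul, hU, smul_zero, zero_add]
            push_cast
            rw [hK.two]; ring
        | succ i ih =>
          rw [pow_succ, ← mul_assoc]
          show ψ ((algebraMap ℤ (AddMonoid.End U) z * e ^ i) (e u)) = _
          rw [ih (e u) (by rw [hφ, hu, map_zero]), hψ u hu]
          ring
    have hzero : ∀ u, φ u = 0 → aeval e P u = 0 := fun u hu =>
      hψ0 _ (by rw [hcomm, hu, map_zero]) (by rw [hval P u hu, hP, zero_mul])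
    have hsq : aeval e P ^ 2 = 0 := AddMonoidHom.ext fun u => by
      rw [pow_two]
      show aeval e P (aeval e P u) = 0
      refine hzero _ ?_
      rw [hcomm]
      exact hzero _ (hφ2 u)
    have hpow : ∀ R : ℤ[X], aeval e R ^ 2 ^ m = aeval e R := by
      intro R
      induction R using Polynomial.induction_on' with
      | add p q hp hq =>
        rw [map_add, add_pow_char_pow_of_commute 2 m
          ((Commute.all p q).map (aeval e)), hp, hq]
      | monomial i z =>
        rw [aeval_monomial, (Algebra.commute_algebraMap_left z (e ^ i)).mul_pow, ← pow_mul, mul_comm i,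
          pow_mul, he]
        congr 1
        rw [← map_pow]
        obtain ⟨w, hw | hw⟩ := Int.even_or_odd' z
        · have : ∀ v : ℤ, algebraMap ℤ (AddMonoid.End U) (2 * v) = 0 := fun v => by
            rw [map_mul, map_ofNat, CharTwo.two_eq_zero, zero_mul]
          rw [hw, mul_pow, ← Nat.sub_add_cancel (Nat.one_le_two_pow (n := m)), pow_succ',
            mul_assoc, this, this]
        · have hodd : ∀ v : ℤ, Odd v → algebraMap ℤ (AddMonoid.End U) v = 1 := by
            rintro v ⟨w, rfl⟩
            rw [map_add, map_mul, map_ofNat, CharTwo.two_eq_zero, zero_mul, zero_add, map_one]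
          rw [hodd z ⟨w, hw⟩, hodd (z ^ _) (Odd.pow ⟨w, hw⟩)]
    rw [← hpow P, ← Nat.add_sub_cancel' (show 2 ≤ 2 ^ m from Nat.le_self_pow (by omega) 2), pow_add,
      hsq, zero_mul]
  have hsurj : Function.Surjective (aeval l : ℤ[X] →ₐ[ℤ] K).toRingHom := fun k => by
    rcases eq_or_ne k 0 with rfl | hk
    · exact ⟨0, map_zero _⟩
    · obtain ⟨i, rfl⟩ := hK.gen k hk
      exact ⟨X ^ i, by simp⟩
  refine ⟨RingHom.liftOfSurjective _ hsurj ⟨(aeval e : ℤ[X] →ₐ[ℤ] AddMonoid.End U).toRingHom,
    fun P hP => hker P hP⟩, ?_⟩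
  have := RingHom.liftOfRightInverse_comp_apply (aeval l : ℤ[X] →ₐ[ℤ] K).toRingHom
    (Function.surjInv hsurj) (Function.rightInverse_surjInv hsurj)
    ⟨(aeval e : ℤ[X] →ₐ[ℤ] AddMonoid.End U).toRingHom, fun P hP => hker P hP⟩ X
  simpa [RingHom.liftOfSurjective] using this

end Gen

/-- A transitive automorphism of a finite group of exponent two gives a field structure. -/
theorem exists_field {M : Type*} [AddCommGroup M] [Finite M] [Nontrivial M]
    (hM : ∀ x : M, x + x = 0) (r : AddMonoid.End M)
    (htr : ∀ x y : M, x ≠ 0 → y ≠ 0 → ∃ k : ℕ, (r ^ k) x = y) :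
    ∃ (K : Type) (_ : Field K) (l : K) (κ : M ≃+ K), Gen K l ∧ ∀ x, κ (r x) = l * κ x := by
  let ev := (aeval r : ℤ[X] →ₐ[ℤ] AddMonoid.End M).toRingHom
  let θ : ℤ[X] ⧸ RingHom.ker ev →+* AddMonoid.End M :=
    Ideal.Quotient.lift _ ev (fun P hP => RingHom.mem_ker.1 hP)
  have hθinj : Function.Injective θ := RingHom.lift_injective_of_ker_le_ideal _ _ le_rfl
  let L : ℤ[X] ⧸ RingHom.ker ev := Ideal.Quotient.mk _ X
  have hL : θ L = r := by
    show Ideal.Quotient.lift _ ev _ (Ideal.Quotient.mk _ X) = r
    rw [Ideal.Quotient.lift_mk]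
    show aeval r X = r
    exact aeval_X r
  obtain ⟨c, hc⟩ := exists_ne (0 : M)
  have hker : ∀ k, ∀ x : M, x ≠ 0 → θ k x = 0 → k = 0 := by
    intro k x hx h
    apply hθinj
    rw [map_zero]
    refine AddMonoidHom.ext fun y => ?_
    rcases eq_or_ne y 0 with rfl | hy
    · exact map_zero _
    obtain ⟨i, rfl⟩ := htr x y hx hy
    show θ k ((r ^ i) x) = 0
    rw [← hL, ← map_pow]
    show (θ k * θ (L ^ i)) x = 0
    rw [← map_mul, mul_comm, map_mul]
    show θ (L ^ i) (θ k x) = 0
    rw [h, map_zero]
  have hbij : Function.Bijective fun k => θ k c := by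
    refine ⟨fun k k' h => sub_eq_zero.1 (hker _ c hc ?_), fun y => ?_⟩
    · rw [map_sub]; exact sub_eq_zero.2 h
    · rcases eq_or_ne y 0 with rfl | hy
      · exact ⟨0, by simp⟩
      · obtain ⟨i, rfl⟩ := htr c y hc hy
        exact ⟨L ^ i, by simp [hL]⟩
  haveI : Finite (ℤ[X] ⧸ RingHom.ker ev) := Finite.of_injective _ hbij.injective
  haveI : Nontrivial (ℤ[X] ⧸ RingHom.ker ev) := hbij.surjective.nontrivial
  haveI : NoZeroDivisors (ℤ[X] ⧸ RingHom.ker ev) := ⟨fun {a b} hab => by
    by_contra hne
    rw [not_or] at hne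
    exact hne.1 (hker a (θ b c) (fun e => hne.2 (hker b c hc e)) (by
      show (θ a * θ b) c = 0
      rw [← map_mul, hab]; simp))⟩
  haveI : IsDomain (ℤ[X] ⧸ RingHom.ker ev) := NoZeroDivisors.to_isDomain _
  haveI hmax : (RingHom.ker ev).IsMaximal :=
    Ideal.Quotient.maximal_of_isField _ (Finite.isField_of_domain _)
  letI : Field (ℤ[X] ⧸ RingHom.ker ev) := Ideal.Quotient.field _
  let E : (ℤ[X] ⧸ RingHom.ker ev) ≃+ M :=
    AddEquiv.ofBijective (AddMonoidHom.mk' (fun k => θ k c) fun a b => by rw [map_add]; rfl) hbij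
  refine ⟨_, inferInstance, L, E.symm, ⟨inferInstance, ?_, fun k hk => ?_⟩, fun x => ?_⟩
  · apply E.injective
    rw [show (2 : ℤ[X] ⧸ RingHom.ker ev) = 1 + 1 by norm_num, map_add, map_zero, hM]
  · obtain ⟨i, hi⟩ := htr c (θ k c) hc fun e => hk (hker k c hc e)
    exact ⟨i, hbij.injective (by show θ (L ^ i) c = _; rw [map_pow, hL, hi])⟩
  · apply E.injective
    rw [E.apply_symm_apply]
    show r x = θ (L * E.symm x) c
    rw [map_mul, hL]
    show r x = r (E (E.symm x))
    rw [E.apply_symm_apply]

end Cfsg.Agent.SingerTwo
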