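import Cfsg.Agent.SingerTwo.Basic

/-!
# The abelian subgroups stable under both automorphisms
-/

set_option autoImplicit false
set_option linter.unusedSectionVars false

namespace Cfsg.Agent.SingerTwo

open Subgroup

variable {Q : Type*} [Group Q] [Finite Q] {K : Type*} [Field K] {l : K} {α ρ : MulAut Q}
  {C : Subgroup Q} {κ : Q → K}

/-- The first possibility: elementary abelian of order the square of the field. -/
def ElemCase (α : MulAut Q) (K : Type*) (C R : Subgroup Q) : Prop :=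
  (∀ x ∈ R, x * x = 1) ∧ Nat.card R = Nat.card K ^ 2 ∧ ∀ c ∈ C, ∃ e ∈ R, α e = c * e

/-- The second possibility: the involutions are fixed. -/
def CycCase (α ρ : MulAut Q) (K : Type*) [Field K] (l : K) (C R : Subgroup Q) : Prop :=
  (∀ x ∈ R, x * x = 1 → x ∈ C) ∧ ∃ π : Q → K,
    (∀ x ∈ R, ∀ y ∈ R, π (x * y) = π x + π y) ∧ (∀ k, ∃ x ∈ R, π x = k) ∧
    (∀ x ∈ R, π (ρ x) = l * π x) ∧ (∀ x ∈ R, (π x = 0 ↔ ∃ y ∈ R, y * y = x)) ∧
    (∀ x ∈ R, (π x = 0 ↔ ∃ y ∈ R, α y * y⁻¹ = x))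

theorem card_ker_range {A B : Type*} [Group A] [Group B] [Finite A] (f : A →* B) :
    Nat.card f.ker * Nat.card f.range = Nat.card A := by
  rw [← f.ker.card_mul_index, Subgroup.index_ker]

namespace Sing

variable (h : Sing Q K l α ρ C κ)

include h

theorem abelian {R : Subgroup Q} (hR : Inv α ρ R) (hne : R ≠ ⊥)
    (hcomm : ∀ x ∈ R, ∀ y ∈ R, x * y = y * x) :
    ElemCase α K C R ∨ CycCase α ρ K l C R := by
  have hCR := h.C_le hR hne
  have cm : ∀ x y : R, x * y = y * x := fun x y => Subtype.ext (hcomm _ x.2 _ y.2)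
  let δ : R →* Q := MonoidHom.mk' (fun x => α (x : Q) * (x : Q)⁻¹) fun x y => by
    show α ((x : Q) * y) * ((x : Q) * y)⁻¹ = _
    rw [map_mul, mul_inv_rev, mul_assoc (α (x : Q)), ← mul_assoc (α (y : Q)),
      hcomm _ (R.mul_mem (hR _ y.2).1 (R.inv_mem y.2)) _ (R.inv_mem x.2), ← mul_assoc]
  let sq : R →* Q := MonoidHom.mk' (fun x => (x : Q) * x) fun x y => by
    show (x : Q) * y * ((x : Q) * y) = _
    rw [mul_assoc, ← mul_assoc (y : Q) x y, hcomm _ y.2 _ x.2, mul_assoc, ← mul_assoc]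
  have hδker : δ.ker = C.subgroupOf R := by
    ext x
    rw [MonoidHom.mem_ker, Subgroup.mem_subgroupOf, h.hC]
    show α (x : Q) * (x : Q)⁻¹ = 1 ↔ _
    exact mul_inv_eq_one
  have hδcard : Nat.card R = Nat.card K * Nat.card δ.range := by
    rw [← card_ker_range δ, hδker, Nat.card_congr (subgroupOfEquivOfLe hCR).toEquiv, h.card_C]
  by_cases hB : ∀ x ∈ R, x * x = 1 → x ∈ C
  · right
    refine ⟨hB, ?_⟩
    have hsker : sq.ker = C.subgroupOf R := by
      ext x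
      rw [MonoidHom.mem_ker, Subgroup.mem_subgroupOf]
      exact ⟨hB _ x.2, h.sq_C⟩
    have hscard : Nat.card R = Nat.card K * Nat.card sq.range := by
      rw [← card_ker_range sq, hsker, Nat.card_congr (subgroupOfEquivOfLe hCR).toEquiv, h.card_C]
    obtain ⟨e, he⟩ := (IsPGroup.iff_card (p := 2) (G := R)).1 (h.hp.to_subgroup R)
    have hex : ∃ m, ∀ x ∈ R, x ^ 2 ^ m = 1 := ⟨e, fun x hx => by
      have := pow_card_eq_one' (G := R) (x := ⟨x, hx⟩)
      rw [he] at this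
      exact congrArg Subtype.val this⟩
    classical
    obtain ⟨m, hm, hmmin⟩ : ∃ m, (∀ x ∈ R, x ^ 2 ^ m = 1) ∧
        ∀ j < m, ¬ ∀ x ∈ R, x ^ 2 ^ j = 1 :=
      ⟨Nat.find hex, Nat.find_spec hex, fun j hj => Nat.find_min hex hj⟩
    obtain ⟨m, rfl⟩ : ∃ j, m = j + 1 := by
      rcases m with _ | m
      · refine absurd ?_ hne
        rw [eq_bot_iff]
        exact fun x hx => mem_bot.2 (by simpa using hm x hx)
      · exact ⟨m, rfl⟩
    let pw : R →* Q := MonoidHom.mk' (fun x => (x : Q) ^ 2 ^ m) fun x y =>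
      Commute.mul_pow (hcomm _ x.2 _ y.2) _
    have hpwC : ∀ x : R, pw x ∈ C := fun x => hB _ (R.pow_mem x.2 _) (by
      show (x : Q) ^ 2 ^ m * (x : Q) ^ 2 ^ m = 1
      rw [← pow_add, ← mul_two, ← pow_succ, hm _ x.2])
    have hrange : pw.range = C := by
      refine le_antisymm (by rintro _ ⟨x, rfl⟩; exact hpwC x) (h.C_le ?_ ?_)
      · rintro _ ⟨x, rfl⟩
        exact ⟨⟨⟨α x, (hR _ x.2).1⟩, (map_pow α (x : Q) _).symm⟩,
          ⟨⟨ρ x, (hR _ x.2).2⟩, (map_pow ρ (x : Q) _).symm⟩⟩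
      · intro e0
        refine hmmin m (Nat.lt_succ_self m) fun x hx => ?_
        have h0 : pw ⟨x, hx⟩ ∈ pw.range := ⟨_, rfl⟩
        rw [e0, mem_bot] at h0
        exact h0
    have hsqker : sq.range ≤ pw.ker.map R.subtype := by
      rintro _ ⟨x, rfl⟩
      refine ⟨⟨_, R.mul_mem x.2 x.2⟩, ?_, rfl⟩
      show ((x : Q) * x) ^ 2 ^ m = 1
      rw [← pow_two, ← pow_mul, ← pow_succ', hm _ x.2]
    have hkcard : Nat.card (pw.ker.map R.subtype) * Nat.card K = Nat.card R := by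
      rw [Subgroup.card_map_of_injective R.subtype_injective, ← h.card_C, ← hrange, card_ker_range]
    have hKpos : 0 < Nat.card K := lt_trans Nat.zero_lt_one h.one_lt
    have hkeq : sq.range = pw.ker.map R.subtype := by
      refine eq_of_le_of_card_ge hsqker ?_
      refine Nat.le_of_mul_le_mul_right ?_ hKpos
      rw [hkcard, hscard, mul_comm]
    have hδle : δ.range ≤ pw.ker.map R.subtype := by
      rintro _ ⟨x, rfl⟩
      refine ⟨⟨_, R.mul_mem (hR _ x.2).1 (R.inv_mem x.2)⟩, ?_, rfl⟩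
      show (α (x : Q) * (x : Q)⁻¹) ^ 2 ^ m = 1
      rw [Commute.mul_pow (hcomm _ (hR _ x.2).1 _ (R.inv_mem x.2)), inv_pow, ← map_pow,
        show α ((x : Q) ^ 2 ^ m) = (x : Q) ^ 2 ^ m from h.fix (hpwC x), mul_inv_cancel]
    have hδeq : δ.range = pw.ker.map R.subtype := by
      refine eq_of_le_of_card_ge hδle ?_
      refine Nat.le_of_mul_le_mul_right ?_ hKpos
      rw [hkcard, hδcard, mul_comm]
    let π : Q → K := fun x => κ (x ^ 2 ^ m)
    have hπ0 : ∀ x (hx : x ∈ R), π x = 0 ↔ x ∈ pw.ker.map R.subtype := by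
      intro x hx
      refine ⟨fun e0 => ⟨⟨x, hx⟩, h.κ_inj _ (hpwC ⟨x, hx⟩) e0, rfl⟩, ?_⟩
      rintro ⟨y, hy, rfl⟩
      show κ ((y : Q) ^ 2 ^ m) = 0
      rw [show (y : Q) ^ 2 ^ m = 1 from hy, h.κ_one]
    refine ⟨π, fun x hx y hy => ?_, fun k => ?_, fun x hx => ?_, fun x hx => ?_, fun x hx => ?_⟩
    · show κ ((x * y) ^ 2 ^ m) = _
      rw [Commute.mul_pow (hcomm x hx y hy)]
      exact h.κ_mul _ (hpwC ⟨x, hx⟩) _ (hpwC ⟨y, hy⟩)
    · obtain ⟨a, ha, rfl⟩ := h.κ_surj k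
      rw [← hrange] at ha
      obtain ⟨x, rfl⟩ := ha
      exact ⟨x, x.2, rfl⟩
    · show κ (ρ x ^ 2 ^ m) = _
      rw [← map_pow]
      exact h.κ_rho _ (hpwC ⟨x, hx⟩)
    · rw [hπ0 x hx, ← hkeq]
      exact ⟨fun ⟨y, hy⟩ => ⟨y, y.2, hy⟩, fun ⟨y, hy, e⟩ => ⟨⟨y, hy⟩, e⟩⟩
    · rw [hπ0 x hx, ← hδeq]
      exact ⟨fun ⟨y, hy⟩ => ⟨y, y.2, hy⟩, fun ⟨y, hy, e⟩ => ⟨⟨y, hy⟩, e⟩⟩
  · left
    push Not at hB
    obtain ⟨e₁, he₁, he₁2, he₁C⟩ := hB
    let E : Subgroup Q := sq.ker.map R.subtype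
    have hE : ∀ {x}, x ∈ E ↔ x ∈ R ∧ x * x = 1 :=
      ⟨fun ⟨y, hy, e⟩ => e ▸ ⟨y.2, hy⟩, fun ⟨hx, hx2⟩ => ⟨⟨_, hx⟩, hx2, rfl⟩⟩
    let δE : Subgroup Q := (δ.comp sq.ker.subtype).range
    have hδE : δE ≤ C := by
      rintro _ ⟨⟨x, hx⟩, rfl⟩
      show α (x : Q) * (x : Q)⁻¹ ∈ C
      have hi : (x : Q)⁻¹ = x := inv_eq_of_mul_eq_one_left hx
      rw [h.hC, hi, map_mul, h.hα, hcomm _ x.2 _ (hR _ x.2).1]
    have hδC : δE = C := by
      refine le_antisymm hδE (h.C_le ?_ ?_)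
      · rintro _ ⟨⟨x, hx⟩, rfl⟩
        have hα' : (⟨α x, (hR _ x.2).1⟩ : R) ∈ sq.ker := by
          show α (x : Q) * α x = 1
          rw [← map_mul, show (x : Q) * x = 1 from hx, map_one]
        have hρ' : (⟨ρ x, (hR _ x.2).2⟩ : R) ∈ sq.ker := by
          show ρ (x : Q) * ρ x = 1
          rw [← map_mul, show (x : Q) * x = 1 from hx, map_one]
        refine ⟨⟨⟨_, hα'⟩, ?_⟩, ⟨⟨_, hρ'⟩, ?_⟩⟩
        · show α (α (x : Q)) * (α (x : Q))⁻¹ = α (α (x : Q) * (x : Q)⁻¹)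
          rw [map_mul, map_inv]
        · show α (ρ (x : Q)) * (ρ (x : Q))⁻¹ = ρ (α (x : Q) * (x : Q)⁻¹)
          rw [map_mul, map_inv, h.hc]
      · intro e0
        refine he₁C ((h.hC _).2 (mul_inv_eq_one.1 ?_))
        have h0 : (δ.comp sq.ker.subtype) ⟨⟨e₁, he₁⟩, he₁2⟩ ∈ δE := ⟨_, rfl⟩
        rw [e0, mem_bot] at h0
        exact h0
    have hex : ∀ c ∈ C, ∃ e ∈ R, e * e = 1 ∧ α e = c * e := fun c hc => by
      rw [← hδC] at hc
      obtain ⟨⟨x, hx⟩, rfl⟩ := hc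
      exact ⟨x, x.2, hx, (inv_mul_cancel_right _ _).symm⟩
    have hall : ∀ x ∈ R, x * x = 1 := by
      intro x hx
      by_contra hne'
      -- squares of elements of order at most four
      let R4 : Subgroup R :=
        { carrier := {y | ((y : Q) * y) * ((y : Q) * y) = 1}
          one_mem' := by simp
          mul_mem' := fun {a b} ha hb => by
            show sq (a * b) * sq (a * b) = 1
            rw [map_mul, mul_assoc, ← mul_assoc (sq b), hcomm (sq b) (R.mul_mem b.2 b.2) (sq a)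
              (R.mul_mem a.2 a.2), mul_assoc, ← mul_assoc, show sq a * sq a = 1 from ha,
              show sq b * sq b = 1 from hb, one_mul]
          inv_mem' := fun {a} ha => by
            show sq a⁻¹ * sq a⁻¹ = 1
            rw [map_inv, ← mul_inv_rev, show sq a * sq a = 1 from ha, inv_one] }
      obtain ⟨k, hk⟩ := h.hp x
      have hex' : ∃ j, x ^ 2 ^ j = 1 := ⟨k, hk⟩
      classical
      obtain ⟨j, hj, hjmin⟩ : ∃ j, x ^ 2 ^ j = 1 ∧ ∀ i < j, x ^ 2 ^ i ≠ 1 :=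
        ⟨Nat.find hex', Nat.find_spec hex', fun i hi => Nat.find_min hex' hi⟩
      obtain ⟨i, rfl⟩ : ∃ i, j = i + 2 := by
        rcases j with _ | _ | j
        · exact absurd (by simpa using hj) (fun e : x = 1 => hne' (by rw [e, mul_one]))
        · exact absurd (by simpa [pow_two] using hj) hne'
        · exact ⟨j, rfl⟩
      let S : Subgroup Q := (sq.comp R4.subtype).range
      have hS : Inv α ρ S := by
        rintro _ ⟨⟨y, hy⟩, rfl⟩
        have hy' : ((y : Q) * y) * ((y : Q) * y) = 1 := hy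
        refine ⟨⟨⟨⟨α y, (hR _ y.2).1⟩, ?_⟩, (map_mul α (y : Q) y).symm⟩,
          ⟨⟨⟨ρ y, (hR _ y.2).2⟩, ?_⟩, (map_mul ρ (y : Q) y).symm⟩⟩
        · show (α (y : Q) * α y) * (α (y : Q) * α y) = 1
          rw [← map_mul, ← map_mul, hy', map_one]
        · show (ρ (y : Q) * ρ y) * (ρ (y : Q) * ρ y) = 1
          rw [← map_mul, ← map_mul, hy', map_one]
      have hSne : S ≠ ⊥ := by
        intro e0
        have hy : (⟨x ^ 2 ^ i, R.pow_mem hx _⟩ : R) ∈ R4 := by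
          show (x ^ 2 ^ i * x ^ 2 ^ i) * (x ^ 2 ^ i * x ^ 2 ^ i) = 1
          rw [← pow_add, ← pow_add, show 2 ^ i + 2 ^ i + (2 ^ i + 2 ^ i) = 2 ^ (i + 2) by ring, hj]
        have h0 : (sq.comp R4.subtype) ⟨_, hy⟩ ∈ S := ⟨_, rfl⟩
        rw [e0, mem_bot] at h0
        refine hjmin (i + 1) (by omega) ?_
        rw [pow_succ, pow_mul, pow_two]
        exact h0
      obtain ⟨c, hcS, hcC, hc1⟩ := h.exists_fix hS hSne
      obtain ⟨⟨y, hy⟩, rfl⟩ := hcS
      have hyc : (y : Q) * y ∈ C := hcC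
      set w := α (y : Q) * (y : Q)⁻¹ with hw
      have hwR : w ∈ R := R.mul_mem (hR _ y.2).1 (R.inv_mem y.2)
      have hw2 : w * w = 1 := by
        rw [hw, mul_assoc, ← mul_assoc (y : Q)⁻¹, hcomm _ (R.inv_mem y.2) _ (hR _ y.2).1, mul_assoc,
          ← mul_assoc (α (y : Q)), ← mul_inv_rev, ← map_mul, h.fix hyc, mul_inv_cancel]
      have hwC : w ∈ C := by
        rw [h.hC]
        calc α w = w⁻¹ := by rw [hw, map_mul, map_inv, h.hα, mul_inv_rev, inv_inv]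
          _ = w := inv_eq_of_mul_eq_one_left hw2
      obtain ⟨e, heR, he2, hαe⟩ := hex w hwC
      have hye : (y : Q) * e ∈ C := by
        rw [h.hC, map_mul, hαe, show α (y : Q) = w * y by rw [hw, inv_mul_cancel_right]]
        calc w * (y : Q) * (w * e) = w * ((y : Q) * w) * e := by simp only [mul_assoc]
          _ = w * (w * (y : Q)) * e := by rw [hcomm _ y.2 _ hwR]
          _ = (y : Q) * e := by rw [← mul_assoc w w, hw2, one_mul]
      have h4 := h.sq_C hye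
      rw [mul_assoc, ← mul_assoc e, hcomm e heR _ y.2, mul_assoc, he2, mul_one] at h4
      exact hc1 h4
    refine ⟨hall, ?_, fun c hc => by obtain ⟨e, he, -, h3⟩ := hex c hc; exact ⟨e, he, h3⟩⟩
    have hrange : δ.range = C := by
      refine le_antisymm ?_ (hδC.ge.trans ?_)
      · rintro _ ⟨x, rfl⟩
        exact hδE ⟨⟨x, hall _ x.2⟩, rfl⟩
      · rintro _ ⟨x, rfl⟩; exact ⟨x.1, rfl⟩
    rw [hδcard, hrange, h.card_C, pow_two]

end Sing

end Cfsg.Agent.SingerTwo
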