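import Cfsg.Agent.SingerTwo.Field

/-!
# Two-groups with an involution and a commuting semiregular automorphism
-/

set_option autoImplicit false
set_option linter.unusedSectionVars false

namespace Cfsg.Agent.SingerTwo

open Subgroup

variable {Q : Type*} [Group Q] {K : Type*} [Field K] {l : K} {α ρ : MulAut Q} {C : Subgroup Q}
  {κ : Q → K}

/-- The hypotheses: the fixed points of the involution form a line over the field. -/
structure Sing (Q : Type*) [Group Q] (K : Type*) [Field K] (l : K) (α ρ : MulAut Q)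
    (C : Subgroup Q) (κ : Q → K) : Prop where
  gen : Gen K l
  big : ∃ t : K, t ≠ 0 ∧ t ≠ 1
  hp : IsPGroup 2 Q
  hα : ∀ x, α (α x) = x
  hc : ∀ x, α (ρ x) = ρ (α x)
  hρ : ρ ^ (Nat.card K - 1) = 1
  hC : ∀ x, x ∈ C ↔ α x = x
  κ_mul : ∀ a ∈ C, ∀ b ∈ C, κ (a * b) = κ a + κ b
  κ_inj : ∀ a ∈ C, κ a = 0 → a = 1
  κ_surj : ∀ k, ∃ a ∈ C, κ a = k
  κ_rho : ∀ a ∈ C, κ (ρ a) = l * κ a

/-- Stable under both automorphisms. -/
def Inv (α ρ : MulAut Q) (R : Subgroup Q) : Prop := ∀ x ∈ R, α x ∈ R ∧ ρ x ∈ R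

theorem Inv.pow {R : Subgroup Q} (hR : Inv α ρ R) (i : ℕ) {x : Q} (hx : x ∈ R) :
    (ρ ^ i) x ∈ R := by
  induction i with
  | zero => simpa using hx
  | succ i ih => rw [pow_succ', MulAut.mul_apply]; exact (hR _ ih).2

theorem inv_center : Inv α ρ (center Q) := by
  intro x hx
  rw [mem_center_iff] at hx
  have : ∀ f : MulAut Q, f x ∈ center Q := fun f => mem_center_iff.2 fun g => by
    obtain ⟨g', rfl⟩ := f.surjective g
    rw [← map_mul, ← map_mul, hx]
  exact ⟨this α, this ρ⟩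

theorem inv_top : Inv α ρ (⊤ : Subgroup Q) := fun _ _ => ⟨trivial, trivial⟩

theorem inv_bot : Inv α ρ (⊥ : Subgroup Q) := fun x hx => by
  rw [mem_bot] at hx; subst hx; simp

/-- A point map on a finite set with prime period and no fixed point. -/
theorem dvd_of_free {S : Type*} [Finite S] {r : ℕ} [Fact r.Prime] (f : Equiv.Perm S)
    (hf : f ^ r = 1) (hfree : ∀ s, f s ≠ s) : r ∣ Nat.card S := by
  let H := Subgroup.zpowers f
  have hH : IsPGroup r H := by
    have : orderOf f ∣ r := orderOf_dvd_of_pow_eq_one hf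
    rcases (Nat.dvd_prime Fact.out).1 this with h | h
    · exact IsPGroup.of_card (n := 0) (by rw [Nat.card_zpowers, h, pow_zero])
    · exact IsPGroup.of_card (n := 1) (by rw [Nat.card_zpowers, h, pow_one])
  have h := hH.card_modEq_card_fixedPoints S
  have h0 : MulAction.fixedPoints H S = ∅ := by
    ext s
    simp only [MulAction.mem_fixedPoints, Set.mem_empty_iff_false, iff_false]
    exact fun hs => hfree s (hs ⟨f, Subgroup.mem_zpowers f⟩)
  rw [h0] at h
  exact Nat.modEq_zero_iff_dvd.1 (by simpa using h)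

namespace Sing

variable (h : Sing Q K l α ρ C κ)

include h

theorem fix {a : Q} (ha : a ∈ C) : α a = a := (h.hC a).1 ha

theorem κ_one : κ 1 = 0 := by
  have := h.κ_mul 1 C.one_mem 1 C.one_mem
  rw [one_mul] at this
  linear_combination -this

theorem sq_C {a : Q} (ha : a ∈ C) : a * a = 1 :=
  h.κ_inj _ (C.mul_mem ha ha) (by rw [h.κ_mul a ha a ha, h.gen.add_self])

theorem inv_C {a : Q} (ha : a ∈ C) : a⁻¹ = a := inv_eq_of_mul_eq_one_left (h.sq_C ha)

theorem κ_eq {a b : Q} (ha : a ∈ C) (hb : b ∈ C) (e : κ a = κ b) : a = b := by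
  have := h.κ_inj _ (C.mul_mem ha hb) (by rw [h.κ_mul a ha b hb, e, h.gen.add_self])
  rw [← h.inv_C hb]
  exact eq_inv_of_mul_eq_one_left this

theorem invC : Inv α ρ C := fun x hx =>
  ⟨by rwa [h.fix hx], (h.hC _).2 (by rw [h.hc, h.fix hx])⟩

theorem one_lt : 1 < Nat.card K := by
  haveI := h.gen.fin; exact Finite.one_lt_card

theorem card_C : Nat.card C = Nat.card K :=
  Nat.card_congr (Equiv.ofBijective (fun a : C => κ a)
    ⟨fun a b e => Subtype.ext (h.κ_eq a.2 b.2 e),
      fun k => by obtain ⟨a, ha, e⟩ := h.κ_surj k; exact ⟨⟨a, ha⟩, e⟩⟩)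

theorem C_ne_bot : C ≠ ⊥ := fun e => by
  have := h.card_C
  rw [e, card_bot] at this
  exact h.one_lt.ne this

theorem κ_pow {a : Q} (ha : a ∈ C) (i : ℕ) : κ ((ρ ^ i) a) = l ^ i * κ a := by
  induction i with
  | zero => simp
  | succ i ih =>
    rw [pow_succ', MulAut.mul_apply, h.κ_rho _ (h.invC.pow i ha), ih, pow_succ']
    ring

theorem l_ne : l ≠ 0 := fun e => by
  obtain ⟨t, ht, ht1⟩ := h.big
  obtain ⟨i, hi⟩ := h.gen.gen t ht
  rcases Nat.eq_zero_or_pos i with rfl | hi'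
  · exact ht1 (by simpa using hi.symm)
  · exact ht (by rw [← hi, e, zero_pow hi'.ne'])

theorem rho_eq_one {i : ℕ} (hi : l ^ i = 1) : ρ ^ i = 1 := by
  haveI := h.gen.fin
  haveI := Fintype.ofFinite K
  let u : Kˣ := Units.mk0 l h.l_ne
  have hgen : ∀ x : Kˣ, x ∈ Subgroup.zpowers u := fun x => by
    obtain ⟨j, hj⟩ := h.gen.gen x x.ne_zero
    exact ⟨j, Units.ext (by simpa [u] using hj)⟩
  have ho : orderOf u = Nat.card K - 1 := by
    rw [orderOf_eq_card_of_forall_mem_zpowers hgen, Nat.card_units]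
  have : u ^ i = 1 := Units.ext (by simpa [u] using hi)
  obtain ⟨k, rfl⟩ := ho ▸ orderOf_dvd_of_pow_eq_one this
  rw [pow_mul, h.hρ, one_pow]

variable [Finite Q]

theorem exists_fix {R : Subgroup Q} (hR : Inv α ρ R) (hne : R ≠ ⊥) :
    ∃ c ∈ R, c ∈ C ∧ c ≠ 1 := by
  by_contra hno
  push Not at hno
  haveI : Fact (Nat.Prime 2) := ⟨Nat.prime_two⟩
  haveI : Nontrivial R := (nontrivial_iff_ne_bot R).2 hne
  let f : Equiv.Perm {x : R // x ≠ 1} :=
    { toFun := fun x => ⟨⟨α x.1, (hR _ x.1.2).1⟩, fun e => x.2 (Subtype.ext (α.injective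
        ((congrArg Subtype.val e).trans (map_one α).symm)))⟩
      invFun := fun x => ⟨⟨α x.1, (hR _ x.1.2).1⟩, fun e => x.2 (Subtype.ext (α.injective
        ((congrArg Subtype.val e).trans (map_one α).symm)))⟩
      left_inv := fun x => Subtype.ext (Subtype.ext (h.hα _))
      right_inv := fun x => Subtype.ext (Subtype.ext (h.hα _)) }
  have hd : 2 ∣ Nat.card {x : R // x ≠ 1} := by
    refine dvd_of_free f (Equiv.ext fun x => ?_) fun x e => x.2 ?_
    · rw [pow_two]; exact Subtype.ext (Subtype.ext (h.hα _))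
    · exact Subtype.ext (hno _ x.1.2 ((h.hC _).2 (congrArg (fun y => (y.1 : Q)) e)))
  obtain ⟨k, hk⟩ := (IsPGroup.iff_card (p := 2) (G := R)).1 (h.hp.to_subgroup R)
  have hk0 : k ≠ 0 := fun e => by
    rw [e, pow_zero] at hk
    exact (Finite.one_lt_card (α := R)).ne' hk
  have hsum : Nat.card {x : R // x ≠ 1} + 1 = Nat.card R := by
    classical
    rw [← Nat.card_congr (Equiv.sumCompl fun x : R => x = 1), Nat.card_sum,
      Nat.card_unique (α := {x : R // x = 1}), add_comm]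
  have h2 : 2 ∣ Nat.card R := hk ▸ dvd_pow_self 2 hk0
  omega

theorem C_le {R : Subgroup Q} (hR : Inv α ρ R) (hne : R ≠ ⊥) : C ≤ R := by
  obtain ⟨c, hcR, hcC, hc1⟩ := h.exists_fix hR hne
  intro a ha
  rcases eq_or_ne a 1 with rfl | ha1
  · exact R.one_mem
  have hκc : κ c ≠ 0 := fun e => hc1 (h.κ_inj _ hcC e)
  have hκa : κ a ≠ 0 := fun e => ha1 (h.κ_inj _ ha e)
  obtain ⟨i, hi⟩ := h.gen.gen (κ a / κ c) (div_ne_zero hκa hκc)
  have : (ρ ^ i) c = a := h.κ_eq (h.invC.pow i hcC) ha (by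
    rw [h.κ_pow hcC, hi, div_mul_cancel₀ _ hκc])
  exact this ▸ hR.pow i hcR

theorem free {i : ℕ} {x : Q} (hx : x ≠ 1) (e : (ρ ^ i) x = x) : l ^ i = 1 := by
  let F : Subgroup Q :=
    { carrier := {y | (ρ ^ i) y = y}
      one_mem' := map_one _
      mul_mem' := fun {a b} ha hb => by
        show (ρ ^ i) (a * b) = a * b
        rw [map_mul, ha, hb]
      inv_mem' := fun {a} ha => by
        show (ρ ^ i) a⁻¹ = a⁻¹
        rw [map_inv, ha] }
  have hF : Inv α ρ F := fun y (hy : (ρ ^ i) y = y) => by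
    refine ⟨?_, ?_⟩
    · show (ρ ^ i) (α y) = α y
      have : ∀ j, (ρ ^ j) (α y) = α ((ρ ^ j) y) := fun j => by
        induction j with
        | zero => simp
        | succ j ih => rw [pow_succ', MulAut.mul_apply, MulAut.mul_apply, ih, h.hc]
      rw [this, hy]
    · show (ρ ^ i) (ρ y) = ρ y
      rw [← MulAut.mul_apply, ← pow_succ, pow_succ', MulAut.mul_apply, hy]
  obtain ⟨c, hc, hcC, hc1⟩ := h.exists_fix hF fun e' => hx (mem_bot.1 (e' ▸ (show x ∈ F from e)))
  have := h.κ_pow hcC i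
  rw [hc] at this
  exact mul_right_cancel₀ (fun e => hc1 (h.κ_inj _ hcC e)) (by rw [one_mul]; exact this.symm)

theorem free_coset {P : Subgroup Q} (hP : Inv α ρ P) {i : ℕ} {x : Q} (hx : x ∉ P)
    (e : x⁻¹ * (ρ ^ i) x ∈ P) : l ^ i = 1 := by
  by_contra hne
  have hord : orderOf (ρ ^ i) ≠ 1 := fun e1 => by
    rw [orderOf_eq_one_iff] at e1
    exact hne (h.free (x := x) (fun h1 => hx (h1 ▸ P.one_mem)) (by rw [e1]; rfl))
  obtain ⟨r, hr, hrd⟩ := Nat.exists_prime_and_dvd hord
  haveI : Fact r.Prime := ⟨hr⟩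
  obtain ⟨j, hj⟩ := hrd
  set σ : MulAut Q := (ρ ^ i) ^ j with hσ
  have hσr : σ ^ r = 1 := by rw [hσ, ← pow_mul, mul_comm, ← hj, pow_orderOf_eq_one]
  have hσ1 : σ ≠ 1 := fun e1 => by
    have h1 : orderOf (ρ ^ i) ∣ j := orderOf_dvd_of_pow_eq_one e1
    have hj0 : 0 < j := by
      rcases Nat.eq_zero_or_pos j with h0 | h0
      · rw [h0, mul_zero] at hj; exact absurd hj (orderOf_pos _).ne'
      · exact h0
    have := Nat.le_of_dvd hj0 h1
    rw [hj] at this
    nlinarith [hr.two_le]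
  have hσP : ∀ y ∈ P, σ y ∈ P := fun y hy => by rw [hσ, ← pow_mul]; exact hP.pow _ hy
  have hσx : x⁻¹ * σ x ∈ P := by
    rw [hσ]
    clear_value σ
    clear hj hσ hσr hσ1 hσP σ
    induction j with
    | zero => simpa using P.one_mem
    | succ j ih =>
      rw [pow_succ', MulAut.mul_apply]
      have h1 : (ρ ^ i) (x⁻¹ * ((ρ ^ i) ^ j) x) ∈ P := hP.pow i ih
      rw [map_mul, map_inv] at h1
      have h2 := P.mul_mem e h1
      rwa [mul_assoc, mul_inv_cancel_left] at h2
  let f : Equiv.Perm {y : Q // x⁻¹ * y ∈ P} :=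
    Equiv.ofBijective (fun y => ⟨σ y.1, by
      have := P.mul_mem hσx (hσP _ y.2)
      rwa [map_mul, map_inv, mul_assoc, mul_inv_cancel_left] at this⟩)
      (Finite.injective_iff_bijective.1 fun a b hab =>
        Subtype.ext (σ.injective (congrArg Subtype.val hab)))
  have hfapp : ∀ n (y : {y : Q // x⁻¹ * y ∈ P}), ((f ^ n) y : Q) = (σ ^ n) y.1 := by
    intro n y
    induction n with
    | zero => simp
    | succ n ih =>
      rw [pow_succ', Equiv.Perm.mul_apply, pow_succ', MulAut.mul_apply, ← ih]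
      rfl
  have hd : r ∣ Nat.card {y : Q // x⁻¹ * y ∈ P} := by
    refine dvd_of_free f (Equiv.ext fun y => Subtype.ext ?_) fun y ey => hσ1 ?_
    · rw [hfapp, hσr]; rfl
    · have hy : y.1 ≠ 1 := fun e1 => hx (by
        have := y.2; rw [e1, mul_one] at this; simpa using P.inv_mem this)
      rw [hσ, ← pow_mul]
      exact h.rho_eq_one (h.free hy (by
        rw [pow_mul, ← hσ]; exact congrArg Subtype.val ey))
  rw [Nat.card_congr (show {y : Q // x⁻¹ * y ∈ P} ≃ P from
    { toFun := fun y => ⟨x⁻¹ * y, y.2⟩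
      invFun := fun p => ⟨x * p, by rw [inv_mul_cancel_left]; exact p.2⟩
      left_inv := fun y => by simp
      right_inv := fun p => by simp })] at hd
  obtain ⟨k, hk⟩ := (IsPGroup.iff_card (p := 2) (G := P)).1 (h.hp.to_subgroup P)
  rw [hk] at hd
  have hr2 : r = 2 := (Nat.prime_dvd_prime_iff_eq hr Nat.prime_two).1 (hr.dvd_of_dvd_pow hd)
  haveI := h.gen.fin
  haveI := Fintype.ofFinite K
  haveI := h.gen.charP
  obtain ⟨n, -, hn⟩ := FiniteField.card K 2
  have h3 : r ∣ Nat.card K - 1 := (Dvd.intro j hj.symm).trans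
    ((orderOf_pow_dvd i).trans (orderOf_dvd_of_pow_eq_one h.hρ))
  have hev : 2 ∣ Nat.card K := by
    rw [Nat.card_eq_fintype_card, hn]; exact dvd_pow_self 2 n.ne_zero
  have := h.one_lt
  subst hr2
  omega

/-- Stable subgroups at least `|K|` apart. -/
theorem card_le {P R : Subgroup Q} (hP : Inv α ρ P) (hR : Inv α ρ R) (hPR : P < R) :
    Nat.card P * Nat.card K ≤ Nat.card R := by
  obtain ⟨x, hxR, hxP⟩ := SetLike.exists_of_lt hPR
  have hex : ∀ k : K, ∃ i : ℕ, k ≠ 0 → l ^ i = k := fun k => by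
    rcases eq_or_ne k 0 with rfl | hk
    · exact ⟨0, fun e => absurd rfl e⟩
    · obtain ⟨i, hi⟩ := h.gen.gen k hk; exact ⟨i, fun _ => hi⟩
  choose idx hidx using hex
  classical
  have hout : ∀ i, (ρ ^ i) x ∉ P := fun i hi => hxP (by
    have := hP.pow (i * (Nat.card K - 1) - i) hi
    rwa [← MulAut.mul_apply, ← pow_add, Nat.sub_add_cancel (Nat.le_mul_of_pos_right _
      (by have := h.one_lt; omega)), mul_comm, pow_mul, h.hρ, one_pow] at this)
  rw [← Nat.card_prod]
  refine Nat.card_le_card_of_injective (fun pk : P × K => (⟨if pk.2 = 0 then pk.1.1 else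
    (ρ ^ idx pk.2) x * pk.1.1, by
      split
      · exact hPR.le pk.1.2
      · exact R.mul_mem (hR.pow _ hxR) (hPR.le pk.1.2)⟩ : R)) ?_
  rintro ⟨p, a⟩ ⟨q, b⟩ e
  have e' := congrArg Subtype.val e
  simp only at e'
  split at e' <;> rename_i ha <;> split at e' <;> rename_i hb
  · exact Prod.ext (Subtype.ext e') (ha.trans hb.symm)
  · exact absurd (by
      rw [eq_mul_inv_of_mul_eq e'.symm]; exact P.mul_mem p.2 (P.inv_mem q.2)) (hout (idx b))
  · exact absurd (by
      rw [eq_mul_inv_of_mul_eq e']; exact P.mul_mem q.2 (P.inv_mem p.2)) (hout (idx a))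
  · have hab : a = b := by
      set i := idx a
      set j := idx b
      set M := i * (Nat.card K - 1) - i
      have hM : M + i = i * (Nat.card K - 1) := Nat.sub_add_cancel (Nat.le_mul_of_pos_right _
        (by have := h.one_lt; omega))
      have hM1 : ρ ^ (M + i) = 1 := by rw [hM, mul_comm, pow_mul, h.hρ, one_pow]
      have h1 : ((ρ ^ i) x)⁻¹ * (ρ ^ j) x ∈ P := by
        rw [eq_mul_inv_of_mul_eq e'.symm, mul_assoc, inv_mul_cancel_left]
        exact P.mul_mem p.2 (P.inv_mem q.2)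
      have h2 := hP.pow M h1
      rw [map_mul, map_inv, ← MulAut.mul_apply, ← pow_add, hM1, ← MulAut.mul_apply, ← pow_add] at h2
      have h3 : l ^ (M + j) = 1 := h.free_coset hP hxP h2
      have h4 : l ^ (M + i) = 1 := by
        refine h.free_coset hP hxP ?_
        rw [hM1]
        simpa using P.one_mem
      have : l ^ i = l ^ j := by
        rw [pow_add] at h3 h4
        exact mul_left_cancel₀ (pow_ne_zero M h.l_ne) (h4.trans h3.symm)
      rw [← hidx a ha, ← hidx b hb]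
      exact this
    subst hab
    exact Prod.ext (Subtype.ext (mul_left_cancel e')) rfl

theorem irreducible {P R S : Subgroup Q} (hP : Inv α ρ P) (hR : Inv α ρ R) (hPR : P ≤ R)
    (hRS : R ≤ S) (hc : Nat.card S ≤ Nat.card P * Nat.card K) (hne : R ≠ S) : R = P := by
  by_contra hne'
  have h1 := h.card_le hP hR (lt_of_le_of_ne hPR (Ne.symm hne'))
  exact hne (eq_of_le_of_card_ge hRS (hc.trans h1))

end Sing

end Cfsg.Agent.SingerTwo
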