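import Cfsg.Agent.SingerTwo.Main

/-!
# The possible quotients by the centre
-/

set_option autoImplicit false
set_option linter.unusedSectionVars false

namespace Cfsg.Agent.SingerTwo

open Subgroup
open scoped commutatorElement

universe u

variable {Q : Type u} [Group Q] [Finite Q] {K : Type*} [Field K] {l : K} {α ρ : MulAut Q}
  {C : Subgroup Q} {κ : Q → K}
  {α' ρ' : MulAut (Q ⧸ center Q)} {C' : Subgroup (Q ⧸ center Q)} {κ' : Q ⧸ center Q → K}

/-- An abelian quotient with cyclic layers forces commutativity. -/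
theorem Sing.not_cyc (h : Sing Q K l α ρ C κ) (hnc : center Q ≠ ⊤)
    (hB : ∀ z ∈ center Q, z * z = 1 → z ∈ C)
    (hρ' : ∀ x : Q, ρ' x = (ρ x : Q)) (hab : ∀ a b : Q ⧸ center Q, a * b = b * a)
    (hcyc : CycCase α' ρ' K l C' (⊤ : Subgroup (Q ⧸ center Q))) : False := by
  obtain ⟨-, π, hm, hs, hρπ, hsq, -⟩ := hcyc
  let D : Subgroup Q := commutator Q
  have hDZ : D ≤ center Q := by
    show commutator Q ≤ _
    rw [commutator_def, Subgroup.commutator_le]
    intro a _ b _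
    rw [← QuotientGroup.eq_one_iff]
    exact (map_commutatorElement (QuotientGroup.mk' (center Q)) a b).trans
      (commutatorElement_eq_one_iff_mul_comm.2 (hab _ _))
  have hD : Inv α ρ D := by
    intro x hx
    have hf : ∀ f : MulAut Q, D.map f.toMonoidHom = D := fun f =>
      characteristic_iff_map_eq.1 inferInstance f
    exact ⟨(hf α).le ⟨x, hx, rfl⟩, (hf ρ).le ⟨x, hx, rfl⟩⟩
  have hcD : ∀ a b : Q, ⁅a, b⁆ ∈ D := fun a b =>
    Subgroup.commutator_mem_commutator (mem_top a) (mem_top b)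
  have hDne : D ≠ ⊥ := fun e => hnc (eq_top_iff.2 fun a _ => mem_center_iff.2 fun b => by
    have := hcD b a
    rw [e, mem_bot] at this
    exact commutatorElement_eq_one_iff_mul_comm.1 this)
  rcases h.abelian hD hDne fun x hx y _ => (mem_center_iff.1 (hDZ hx) y).symm with
    ⟨hsq', hcard, -⟩ | ⟨-, π', hm', hs', hρ'', hsq', -⟩
  · have hle : D ≤ C := fun x hx => hB x (hDZ hx) (hsq' x hx)
    have := Subgroup.card_le_of_le hle
    rw [hcard, h.card_C, pow_two] at this
    exact absurd (Nat.le_of_mul_le_mul_right (this.trans (one_mul _).ge) (lt_trans Nat.zero_lt_one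
      h.one_lt)) (not_le.2 h.one_lt)
  · let p : Q → K := fun x => π (x : Q ⧸ center Q)
    have hp : ∀ x ∈ (⊤ : Subgroup Q), ∀ y ∈ (⊤ : Subgroup Q), p (x * y) = p x + p y :=
      fun x _ y _ => hm (x : Q ⧸ center Q) (mem_top _) (y : Q ⧸ center Q) (mem_top _)
    have hps : ∀ k, ∃ x ∈ (⊤ : Subgroup Q), p x = k := fun k => by
      obtain ⟨u, -, e⟩ := hs k
      obtain ⟨x, rfl⟩ := QuotientGroup.mk_surjective u
      exact ⟨x, mem_top x, e⟩
    have hpρ : ∀ x ∈ (⊤ : Subgroup Q), ρ x ∈ (⊤ : Subgroup Q) ∧ p (ρ x) = l • p x := fun x _ =>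
      ⟨mem_top _, by
        show π ((ρ x : Q) : Q ⧸ center Q) = _
        rw [← hρ', hρπ _ (mem_top _), smul_eq_mul]⟩
    let f : Q → Q → K := fun a b => π' ⁅a, b⁆
    have hZ : ∀ a b : Q, ⁅a, b⁆ ∈ center Q := fun a b => hDZ (hcD a b)
    have hf₁ : ∀ a a' b, f (a * a') b = f a b + f a' b := fun a a' b => by
      show π' _ = _
      rw [comm_mul_left (hZ a' b)]
      exact hm' _ (hcD a b) _ (hcD a' b)
    have hf₂ : ∀ a b b', f a (b * b') = f a b + f a b' := fun a b b' => by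
      show π' _ = _
      rw [comm_mul_right (hZ a b')]
      exact hm' _ (hcD a b) _ (hcD a b')
    have h1 : π' 1 = 0 := by
      have := hm' 1 D.one_mem 1 D.one_mem
      rw [one_mul] at this
      linear_combination -this
    have hkill : ∀ a b, p a = 0 → f a b = 0 ∧ f b a = 0 := by
      intro a b e
      obtain ⟨u, -, hu⟩ := (hsq _ (mem_top _)).1 e
      obtain ⟨c, rfl⟩ := QuotientGroup.mk_surjective u
      have hz : (c * c)⁻¹ * a ∈ center Q := QuotientGroup.eq.1 hu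
      obtain ⟨z, hz', rfl⟩ : ∃ z ∈ center Q, a = c * c * z :=
        ⟨_, hz, (mul_inv_cancel_left _ _).symm⟩
      refine ⟨?_, ?_⟩
      · rw [hf₁, hf₁, h.gen.add_self, zero_add]
        show π' _ = 0
        rw [commutatorElement_eq_one_iff_mul_comm.2 (mem_center_iff.1 hz' b).symm, h1]
      · rw [hf₂, hf₂, h.gen.add_self, zero_add]
        show π' _ = 0
        rw [commutatorElement_eq_one_iff_mul_comm.2 (mem_center_iff.1 hz' b), h1]
    obtain ⟨g, hg, hgf⟩ := descend h.gen (ρ := ρ) (W := ⊤) (Y := ⊤) p p hp hps hpρ hp hps hpρ f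
      (fun a _ a' _ b _ => hf₁ a a' b) (fun a _ b _ b' _ => hf₂ a b b')
      (fun a _ b _ => by
        show π' _ = _
        rw [← map_commutatorElement, hρ'' _ (hcD a b)])
      (fun a _ b _ e => (hkill a b e).1) (fun a _ b _ e => (hkill b a e).2)
    have h11 : g 1 1 = 0 := by
      obtain ⟨a, ha, e⟩ := hps 1
      have := hgf a ha a ha
      rw [e] at this
      rw [← this]
      show π' ⁅a, a⁆ ^ 2 = 0
      rw [commutatorElement_self, h1]
      simp
    have hzero : ∀ a b : Q, π' ⁅a, b⁆ = 0 := fun a b => by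
      have := hgf a (mem_top a) b (mem_top b)
      rw [alt_line g hg h11] at this
      exact eq_zero_of_pow_eq_zero this
    let D₀ : Subgroup Q :=
      { carrier := {x | x ∈ D ∧ π' x = 0}
        one_mem' := ⟨D.one_mem, h1⟩
        mul_mem' := fun {a b} ha hb => ⟨D.mul_mem ha.1 hb.1, by
          rw [hm' _ ha.1 _ hb.1, ha.2, hb.2, add_zero]⟩
        inv_mem' := fun {a} ha => ⟨D.inv_mem ha.1, by
          have := hm' _ ha.1 _ (D.inv_mem ha.1)
          rw [mul_inv_cancel, h1, ha.2, zero_add] at this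
          exact this.symm⟩ }
    have hle : D ≤ D₀ := by
      show commutator Q ≤ _
      rw [commutator_def, Subgroup.commutator_le]
      exact fun a _ b _ => ⟨hcD a b, hzero a b⟩
    obtain ⟨x, hx, e⟩ := hs' 1
    exact one_ne_zero (e.symm.trans (hle hx).2)

/-- An elementary abelian quotient gives the special form. -/
theorem Sing.spec_of_elem (h : Sing Q K l α ρ C κ) (hCZ : C ≤ center Q)
    (hB : ∀ z ∈ center Q, z * z = 1 → z ∈ C) (hS : Sing (Q ⧸ center Q) K l α' ρ' C' κ')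
    (hα' : ∀ x : Q, α' x = (α x : Q)) (hρ' : ∀ x : Q, ρ' x = (ρ x : Q))
    (hC' : ∀ x : Q, (x : Q ⧸ center Q) ∈ C' ↔ α x * x⁻¹ ∈ center Q)
    (πZ : Q → K) (hπm : ∀ x ∈ center Q, ∀ y ∈ center Q, πZ (x * y) = πZ x + πZ y)
    (hπ0 : ∀ x ∈ center Q, (πZ x = 0 ↔ ∃ y ∈ center Q, y * y = x) ∧
      (πZ x = 0 ↔ ∃ y ∈ center Q, α y * y⁻¹ = x))
    (hab : ∀ a b : Q ⧸ center Q, a * b = b * a)
    (hel : ElemCase α' K C' (⊤ : Subgroup (Q ⧸ center Q))) : Spec α ρ K l C := by
  obtain ⟨hsq, hcard, -⟩ := hel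
  rw [Subgroup.card_top] at hcard
  have hsqZ : ∀ x : Q, x * x ∈ center Q := fun x => by
    rw [← QuotientGroup.eq_one_iff, QuotientGroup.mk_mul]
    exact hsq _ (mem_top _)
  have hcm : ∀ a b : Q, ⁅a, b⁆ ∈ center Q := fun a b => by
    rw [← QuotientGroup.eq_one_iff]
    exact (map_commutatorElement (QuotientGroup.mk' (center Q)) a b).trans
      (commutatorElement_eq_one_iff_mul_comm.2 (hab _ _))
  have hcC : ∀ a b : Q, ⁅a, b⁆ ∈ C := fun a b => h.comm_mem hB (hcm a b) (hsqZ a)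
  obtain ⟨x, hxW⟩ : ∃ x : Q, (x : Q ⧸ center Q) ∉ C' := by
    by_contra hno
    push Not at hno
    have htop : C' = ⊤ := eq_top_iff.2 fun u _ => by
      obtain ⟨x, rfl⟩ := QuotientGroup.mk_surjective u
      exact hno x
    have := hS.card_C
    rw [htop, Subgroup.card_top, hcard, pow_two] at this
    exact h.one_lt.ne' (Nat.eq_of_mul_eq_mul_right (lt_trans Nat.zero_lt_one h.one_lt)
      (this.trans (one_mul _).symm))
  have hCc : C' ≤ center (Q ⧸ center Q) := fun u _ => mem_center_iff.2 fun v => hab v u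
  set d := α x * x⁻¹ with hd
  have hdZ : d ∉ center Q := fun e => hxW ((hC' x).2 e)
  have hdW : (d : Q ⧸ center Q) ∈ C' := by
    rw [hS.hC, hα', hd, map_mul, map_inv, h.hα]
    have : ((x * (α x)⁻¹ : Q) : Q ⧸ center Q) = ((α x * x⁻¹ : Q) : Q ⧸ center Q)⁻¹ := by
      rw [← QuotientGroup.mk_inv, mul_inv_rev, inv_inv]
    rw [this]
    exact inv_eq_of_mul_eq_one_left (hsq _ (mem_top _))
  have hZsq : ∀ z ∈ center Q, z * z = 1 := by
    intro z hz
    let W : Subgroup Q := C'.comap (QuotientGroup.mk' _)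
    have hWinv : Inv α ρ W := fun a ha => ⟨by
        show ((α a : Q) : Q ⧸ center Q) ∈ C'
        rw [← hα']; exact (hS.invC _ ha).1, by
        show ((ρ a : Q) : Q ⧸ center Q) ∈ C'
        rw [← hρ']; exact (hS.invC _ ha).2⟩
    have hzW : ∀ z ∈ center Q, z ∈ W := fun z hz => by
      show (z : Q ⧸ center Q) ∈ C'
      rw [(QuotientGroup.eq_one_iff z).2 hz]; exact C'.one_mem
    have hWne : W ≠ ⊥ := fun e => hdZ (by
      rw [(mem_bot.1 (e ▸ (hdW : d ∈ W)) : d = 1)]; exact one_mem _)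
    rcases h.abelian hWinv hWne fun a ha b hb => h.line_comm hCZ hB hS hρ' hCc ha hb with
      ⟨hW2, -, -⟩ | ⟨hWB, -⟩
    · exact hW2 z (hzW z hz)
    · by_contra hz2
      let sqH : center Q →* Q := MonoidHom.mk' (fun a => (a : Q) * a) fun a b => by
        show (a : Q) * b * ((a : Q) * b) = _
        rw [mul_assoc, ← mul_assoc (b : Q), mem_center_iff.1 a.2 b, mul_assoc, ← mul_assoc]
      have hi : Inv α ρ sqH.range := by
        rintro _ ⟨a, rfl⟩
        exact ⟨⟨⟨α a, (inv_center (α := α) (ρ := ρ) a.1 a.2).1⟩, (map_mul α (a : Q) a).symm⟩,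
          ⟨⟨ρ a, (inv_center (α := α) (ρ := ρ) a.1 a.2).2⟩, (map_mul ρ (a : Q) a).symm⟩⟩
      have hne : sqH.range ≠ ⊥ := fun e => hz2 (mem_bot.1 (e ▸ ⟨⟨z, hz⟩, rfl⟩))
      have hCsq : ∀ c ∈ C, πZ c = 0 := fun c hc => by
        obtain ⟨a, ha⟩ := h.C_le hi hne hc
        exact (hπ0 _ (hCZ hc)).1.2 ⟨a, a.2, ha⟩
      have h1 : πZ (α (x * x) * (x * x)⁻¹) = 0 :=
        (hπ0 _ ((center Q).mul_mem (inv_center (α := α) (ρ := ρ) _ (hsqZ x)).1
          ((center Q).inv_mem (hsqZ x)))).2.2 ⟨_, hsqZ x, rfl⟩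
      have h2 : α (x * x) * (x * x)⁻¹ = d * d * ⁅x, d⁆ := by
        rw [map_mul, show α x = d * x by rw [hd, inv_mul_cancel_right]]
        have h3 : x * d = d * x * ⁅x, d⁆ := by
          rw [mem_center_iff.1 (hcm x d) (d * x), commutatorElement_def]; group
        have hcc := mem_center_iff.1 (hcm x d)
        calc d * x * (d * x) * (x * x)⁻¹ = d * (x * d) * x * (x * x)⁻¹ := by simp only [mul_assoc]
          _ = d * d * (x * ⁅x, d⁆) * x * (x * x)⁻¹ := by rw [h3]; simp only [mul_assoc]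
          _ = d * d * (⁅x, d⁆ * x) * x * (x * x)⁻¹ := by rw [hcc x]
          _ = d * d * ⁅x, d⁆ := by simp [mul_assoc]
      rw [h2, hπm _ (hsqZ d) _ (hcm x d), hCsq _ (hcC x d), add_zero] at h1
      obtain ⟨y, hy, e⟩ := (hπ0 _ (hsqZ d)).1.1 h1
      refine hdZ ?_
      have h4 : d * y⁻¹ ∈ C := hWB _ (W.mul_mem hdW (W.inv_mem (hzW y hy))) (by
        calc d * y⁻¹ * (d * y⁻¹) = d * (y⁻¹ * d) * y⁻¹ := by simp only [mul_assoc]
          _ = d * (d * y⁻¹) * y⁻¹ := by rw [mem_center_iff.1 ((center Q).inv_mem hy) d]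
          _ = (d * d) * (y * y)⁻¹ := by simp only [mul_inv_rev, mul_assoc]
          _ = 1 := by rw [e, mul_inv_cancel])
      simpa using (center Q).mul_mem (hCZ h4) hy
  have hZC : center Q = C := le_antisymm (fun z hz => hB z hz (hZsq z hz)) hCZ
  haveI := h.gen.fin
  haveI := Fintype.ofFinite K
  haveI := h.gen.charP
  obtain ⟨m, -, hm⟩ := FiniteField.card K 2
  rw [← Nat.card_eq_fintype_card] at hm
  letI : CommGroup (Q ⧸ center Q) := { (inferInstance : Group (Q ⧸ center Q)) with mul_comm := hab }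
  let e : AddMonoid.End (Additive (Q ⧸ center Q)) :=
    AddMonoidHom.mk' (fun a => Additive.ofMul (ρ' (Additive.toMul a))) fun a b => by
      show Additive.ofMul (ρ' (_ * _)) = _
      rw [map_mul]; rfl
  have hen : ∀ n a, (e ^ n) a = Additive.ofMul ((ρ' ^ n) (Additive.toMul a)) := fun n => by
    induction n with
    | zero => intro a; rfl
    | succ n ih => intro a; rw [pow_succ', pow_succ']; show e ((e ^ n) a) = _; rw [ih]; rfl
  have hδm : ∀ a b : Q ⧸ center Q, α' (a * b) * (a * b)⁻¹ = (α' a * a⁻¹) * (α' b * b⁻¹) :=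
    fun a b => by rw [map_mul, mul_inv_rev, mul_comm b⁻¹, mul_mul_mul_comm]
  have hδρ : ∀ a : Q ⧸ center Q, α' (ρ' a) * (ρ' a)⁻¹ = ρ' (α' a * a⁻¹) :=
    fun a => by rw [hS.hc, map_mul, map_inv]
  have hδδ : ∀ a : Q ⧸ center Q, α' (α' a * a⁻¹) * (α' a * a⁻¹)⁻¹ = 1 := fun a => by
    rw [map_mul, map_inv, hS.hα, mul_inv_rev, inv_inv, mul_mul_mul_comm, ← mul_inv,
      hsq a (mem_top _), one_mul, hsq _ (mem_top _), inv_one]
  let φ : Additive (Q ⧸ center Q) →+ Additive (Q ⧸ center Q) :=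
    AddMonoidHom.mk' (fun a => Additive.ofMul (α' (Additive.toMul a) * (Additive.toMul a)⁻¹))
      fun a b => congrArg Additive.ofMul (hδm _ _)
  have hφ0 : ∀ a, φ a = 0 ↔ Additive.toMul a ∈ C' := fun a => by
    rw [hS.hC]
    exact Iff.trans (by exact Iff.rfl) mul_inv_eq_one
  obtain ⟨θ, hθ⟩ := h.gen.exists_action (U := Additive (Q ⧸ center Q))
    (fun a => hsq (Additive.toMul a) (mem_top _)) e (m := m) m.pos (by
      refine AddMonoidHom.ext fun a => (hen _ a).trans ?_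
      rw [← hm, ← Nat.sub_add_cancel hS.one_lt.le, pow_succ', hS.hρ, mul_one]
      rfl)
    φ (fun a => congrArg Additive.ofMul (hδρ _))
    (fun a => κ' (Additive.toMul a))
    (fun a b ha hb => hS.κ_mul _ ((hφ0 a).1 ha) _ ((hφ0 b).1 hb))
    (fun a ha => hS.κ_rho _ ((hφ0 a).1 ha))
    (fun a ha e0 => hS.κ_inj _ ((hφ0 a).1 ha) e0)
    (fun a => congrArg Additive.ofMul (hδδ _))
  letI : Module K (Additive (Q ⧸ center Q)) := Module.compHom _ θ
  have hrank : Module.finrank K (Additive (Q ⧸ center Q)) = 2 := by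
    have := Module.natCard_eq_pow_finrank (K := K) (V := Additive (Q ⧸ center Q))
    rw [show Nat.card (Additive (Q ⧸ center Q)) = Nat.card (Q ⧸ center Q) from rfl, hcard] at this
    exact (Nat.pow_right_injective h.one_lt this).symm
  let L : Additive (Q ⧸ center Q) ≃ₗ[K] K × K :=
    LinearEquiv.ofFinrankEq _ _ (by rw [hrank, Module.finrank_prod, Module.finrank_self])
  refine ⟨hCZ, fun a => hB _ (hsqZ a) (hZsq _ (hsqZ a)), hcC, ⟨x, fun e0 => hdZ (hCZ e0)⟩,
    fun a => L (Additive.ofMul (a : Q ⧸ center Q)), fun a b => ?_, fun k => ?_, fun a => ?_,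
    fun a => ?_⟩
  · rw [← map_add]; rfl
  · obtain ⟨a, ha⟩ := QuotientGroup.mk_surjective (Additive.toMul (L.symm k))
    exact ⟨a, (congrArg (fun u => L (Additive.ofMul u)) ha).trans (L.apply_symm_apply k)⟩
  · rw [LinearEquiv.map_eq_zero_iff, ← hZC, ← QuotientGroup.eq_one_iff]
    rfl
  · show L (Additive.ofMul ((ρ a : Q) : Q ⧸ center Q)) = _
    rw [← map_smul, ← hρ']
    congr 1
    show _ = θ l _
    rw [hθ]
    rfl

end Cfsg.Agent.SingerTwo
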