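import Cfsg.Agent.SingerTwo.Structure

/-!
# The quadratic form of squares
-/

set_option autoImplicit false
set_option linter.unusedSectionVars false

namespace Cfsg.Agent.SingerTwo

open Subgroup
open scoped commutatorElement

universe u

variable {Q : Type u} [Group Q] [Finite Q] {K : Type*} [Field K] {l : K} {α ρ : MulAut Q}
  {C : Subgroup Q} {κ : Q → K}

/-- Coordinates in which squaring is a standard form. -/
def Coords (C : Subgroup Q) (N : K × K → K) : Prop :=
  ∃ (π : Q → K × K) (ι : Q → K),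
    (∀ x y, π (x * y) = π x + π y) ∧ Function.Surjective π ∧ (∀ x, π x = 0 ↔ x ∈ C) ∧
    (∀ x ∈ C, ∀ y ∈ C, ι (x * y) = ι x + ι y) ∧ (∀ x ∈ C, ι x = 0 → x = 1) ∧
    (∀ k, ∃ x ∈ C, ι x = k) ∧ ∀ x, ι (x * x) = N (π x)

theorem Sing.coords (h : Sing Q K l α ρ C κ) (hnab : ¬ ∀ a b : Q, a * b = b * a)
    (hspec : Spec α ρ K l C) :
    Coords C (fun v : K × K => v.1 * v.2) ∨
      ∃ d : K, (∀ t : K, t ^ 2 + t + d ≠ 0) ∧
        Coords C (fun v : K × K => v.1 ^ 2 + v.1 * v.2 + d * v.2 ^ 2) := by
  obtain ⟨hCZ, hsq, hcm, -, π, hπm, hπs, hπ0, hπρ⟩ := hspec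
  have hcC : ∀ a b, ⁅a, b⁆ ∈ center Q := fun a b => hCZ (hcm a b)
  have hps : ∀ v, ∃ a ∈ (⊤ : Subgroup Q), π a = v := fun v => by
    obtain ⟨a, e⟩ := hπs v; exact ⟨a, mem_top a, e⟩
  obtain ⟨B, hB2, hBf⟩ := descend h.gen (ρ := ρ) (W := ⊤) (Y := ⊤) π π
    (fun a _ b _ => hπm a b) hps (fun a _ => ⟨mem_top _, hπρ a⟩)
    (fun a _ b _ => hπm a b) hps (fun a _ => ⟨mem_top _, hπρ a⟩) (fun a b => κ ⁅a, b⁆)
    (fun a _ a' _ b _ => by rw [comm_mul_left (hcC a' b), h.κ_mul _ (hcm a b) _ (hcm a' b)])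
    (fun a _ b _ b' _ => by rw [comm_mul_right (hcC a b'), h.κ_mul _ (hcm a b) _ (hcm a b')])
    (fun a _ b _ => by rw [← map_commutatorElement, h.κ_rho _ (hcm a b)])
    (fun a _ b _ e => by
      rw [commutatorElement_eq_one_iff_mul_comm.2 (mem_center_iff.1 (hCZ ((hπ0 a).1 e)) b).symm,
        h.κ_one])
    (fun a _ b _ e => by
      rw [commutatorElement_eq_one_iff_mul_comm.2 (mem_center_iff.1 (hCZ ((hπ0 b).1 e)) a),
        h.κ_one])
  obtain ⟨σ, hσ⟩ := Function.Surjective.hasRightInverse hπs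
  let G : K × K → K := fun v => κ (σ v * σ v) ^ 2
  have hadd : ∀ x y, κ (x * y * (x * y)) = κ (x * x) + κ (y * y) + κ ⁅x, y⁆ := fun x y => by
    have e : x * y * (x * y) = x * x * (y * y) * ⁅y, x⁆ := by
      calc x * y * (x * y) = x * (y * x) * y := by simp only [mul_assoc]
        _ = x * (⁅y, x⁆ * (x * y)) * y := by simp [commutatorElement_def, mul_assoc]
        _ = ⁅y, x⁆ * (x * (x * y)) * y := by
          rw [← mul_assoc x, mem_center_iff.1 (hcC y x) x]; simp only [mul_assoc]
        _ = ⁅y, x⁆ * (x * x * (y * y)) := by simp only [mul_assoc]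
        _ = x * x * (y * y) * ⁅y, x⁆ := (mem_center_iff.1 (hcC y x) _).symm
    rw [e, h.κ_mul _ (C.mul_mem (hsq x) (hsq y)) _ (hcm y x), h.κ_mul _ (hsq x) _ (hsq y),
      h.κ_comm (hcm x y)]
  have hwd : ∀ x, κ (x * x) ^ 2 = G (π x) := fun x => by
    have hc : (σ (π x))⁻¹ * x ∈ C := by
      have h1 := hπm (σ (π x)) ((σ (π x))⁻¹ * x)
      rw [mul_inv_cancel_left, hσ (π x)] at h1
      exact (hπ0 _).1 (left_eq_add.1 h1)
    have h2 := hadd (σ (π x)) ((σ (π x))⁻¹ * x)
    rw [mul_inv_cancel_left, h.sq_C hc, h.κ_one, add_zero,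
      commutatorElement_eq_one_iff_mul_comm.2 (mem_center_iff.1 (hCZ hc) _), h.κ_one,
      add_zero] at h2
    rw [h2]
  have hGadd : ∀ u v, G (u + v) = G u + G v + B u v := fun u v => by
    obtain ⟨x, rfl⟩ := hπs u
    obtain ⟨y, rfl⟩ := hπs v
    rw [← hπm, ← hwd, ← hwd, ← hwd, ← hBf x (mem_top x) y (mem_top y), hadd, h.gen.add_sq,
      h.gen.add_sq]
  have hGl : ∀ v, G (l • v) = l ^ 2 * G v := fun v => by
    obtain ⟨x, rfl⟩ := hπs v
    rw [← hπρ, ← hwd, ← hwd, ← map_mul, h.κ_rho _ (hsq x), mul_pow]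
  have hG0 : G 0 = 0 := by
    have := hwd 1
    rw [one_mul, h.κ_one, (hπ0 1).2 C.one_mem] at this
    rw [← this]; simp
  have hGs : ∀ (t : K) v, G (t • v) = t ^ 2 * G v := fun t v => by
    rcases eq_or_ne t 0 with rfl | ht
    · simp [hG0]
    obtain ⟨i, rfl⟩ := h.gen.gen t ht
    clear ht
    induction i with
    | zero => simp
    | succ i ih => rw [pow_succ', mul_smul, hGl, ih]; ring
  set A := G (1, 0)
  set A' := G (0, 1)
  set c := B (1, 0) (0, 1) with hc
  have hGv : ∀ a b : K, G (a, b) = a ^ 2 * A + b ^ 2 * A' + a * b * c := fun a b => by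
    rw [show ((a, b) : K × K) = a • ((1, 0) : K × K) + b • ((0, 1) : K × K) by ext <;> simp,
      hGadd, hGs, hGs, hB2]
  have hc0 : c ≠ 0 := fun e => hnab fun x y => by
    have hBz : B (π x) (π y) = 0 := by
      have := hGadd (π x) (π y)
      have hsum : G (π x + π y) = G (π x) + G (π y) := by
        obtain ⟨a, b⟩ := π x
        obtain ⟨a', b'⟩ := π y
        rw [Prod.mk_add_mk, hGv, hGv, hGv, e]
        linear_combination (a * a' * A + b * b' * A') * h.gen.two
      rw [hsum] at this
      linear_combination -this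
    have := hBf x (mem_top x) y (mem_top y)
    rw [hBz] at this
    exact commutatorElement_eq_one_iff_mul_comm.1
      (h.κ_inj _ (hcm x y) (eq_zero_of_pow_eq_zero this))
  -- change of coordinates
  have build : ∀ (s : K) (L : (K × K) ≃+ (K × K)) (N : K × K → K), s ≠ 0 →
      (∀ v, G (L v) = s * N v) → Coords C N := by
    intro s L N hs hN
    refine ⟨fun x => L.symm (π x), fun x => κ x ^ 2 / s, fun x y => by simp [hπm],
      L.symm.surjective.comp hπs, fun x => by simp [hπ0], fun x hx y hy => ?_, fun x hx e => ?_,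
      fun k => ?_, fun x => ?_⟩
    · show κ (x * y) ^ 2 / s = κ x ^ 2 / s + κ y ^ 2 / s
      rw [h.κ_mul x hx y hy, h.gen.add_sq, add_div]
    · refine h.κ_inj x hx (eq_zero_of_pow_eq_zero (n := 2) ?_)
      exact (div_eq_zero_iff.1 e).resolve_right hs
    · obtain ⟨r, hr⟩ := h.gen.sqrt (k * s)
      obtain ⟨x, hx, e⟩ := h.κ_surj r
      exact ⟨x, hx, by show κ x ^ 2 / s = k; rw [e, hr, mul_div_cancel_right₀ _ hs]⟩
    · show κ (x * x) ^ 2 / s = N (L.symm (π x))
      rw [hwd, ← L.apply_symm_apply (π x), hN, AddEquiv.symm_apply_apply,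
        mul_div_cancel_left₀ _ hs]
  by_cases hA : A = 0
  · left
    let L : (K × K) ≃+ (K × K) :=
      { toFun := fun v => (v.1 + A' / c * v.2, v.2)
        invFun := fun v => (v.1 + A' / c * v.2, v.2)
        left_inv := fun v => Prod.ext (by linear_combination A' / c * v.2 * h.gen.two) rfl
        right_inv := fun v => Prod.ext (by linear_combination A' / c * v.2 * h.gen.two) rfl
        map_add' := fun v w => Prod.ext (by simp only [Prod.fst_add, Prod.snd_add]; ring) rfl }
    refine build c L _ hc0 fun v => ?_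
    show G (v.1 + A' / c * v.2, v.2) = _
    rw [hGv, hA]
    field_simp
    linear_combination c ^ 2 * v.2 ^ 2 * A' * h.gen.two
  · set d := A' * A / c ^ 2 with hd
    set s := c ^ 2 / A with hs
    have hs0 : s ≠ 0 := div_ne_zero (pow_ne_zero _ hc0) hA
    by_cases hroot : ∃ t, t ^ 2 + t + d = 0
    · left
      obtain ⟨t, ht⟩ := hroot
      let L : (K × K) ≃+ (K × K) :=
        { toFun := fun v => ((v.1 + t * (v.1 + v.2)) * (c / A), v.1 + v.2)
          invFun := fun v => (v.1 * (A / c) + t * v.2, v.1 * (A / c) + (t + 1) * v.2)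
          left_inv := fun v => by
            refine Prod.ext ?_ ?_ <;> simp only
            · field_simp
              linear_combination t * (v.1 + v.2) * h.gen.two
            · field_simp
              linear_combination (v.1 + t * (v.1 + v.2)) * h.gen.two
          right_inv := fun v => by
            refine Prod.ext ?_ ?_ <;> simp only
            · field_simp
              linear_combination (v.1 * A * t + t ^ 2 * v.2 * c + t * v.2 * c) * h.gen.two
            · field_simp
              linear_combination (v.1 * A + t * v.2 * c) * h.gen.two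
          map_add' := fun v w => Prod.ext (by simp only [Prod.fst_add, Prod.snd_add]; ring)
            (by simp only [Prod.fst_add, Prod.snd_add]; ring) }
      refine build s L _ hs0 fun v => ?_
      show G ((v.1 + t * (v.1 + v.2)) * (c / A), v.1 + v.2) = _
      rw [hGv, hs]
      rw [hd] at ht
      field_simp at ht ⊢
      linear_combination (v.1 + v.2) ^ 2 * ht +
        (v.1 ^ 2 * c ^ 2 + v.1 * t * (v.1 + v.2) * c ^ 2) * h.gen.two
    · right
      refine ⟨d, fun t ht => hroot ⟨t, ht⟩, ?_⟩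
      let L : (K × K) ≃+ (K × K) :=
        { toFun := fun v => (v.1 * (c / A), v.2)
          invFun := fun v => (v.1 * (A / c), v.2)
          left_inv := fun v => Prod.ext (by show v.1 * (c / A) * (A / c) = v.1; field_simp) rfl
          right_inv := fun v => Prod.ext (by show v.1 * (A / c) * (c / A) = v.1; field_simp) rfl
          map_add' := fun v w => Prod.ext (by simp only [Prod.fst_add]; ring) rfl }
      refine build s L _ hs0 fun v => ?_
      show G (v.1 * (c / A), v.2) = _
      rw [hGv, hs, hd]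
      field_simp
      ring

end Cfsg.Agent.SingerTwo
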