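import Mathlib

/-!
# Central extensions of elementary abelian groups are determined by their squares
-/

set_option autoImplicit false
set_option linter.unusedSectionVars false

namespace Cfsg.Agent.SingerTwo

open Subgroup

theorem ext_iso {Q₁ Q₂ V : Type*} [Group Q₁] [Group Q₂] [Finite Q₁] [Finite Q₂] [AddCommGroup V]
    (hV : ∀ v : V, v + v = 0) (C₁ : Subgroup Q₁) (C₂ : Subgroup Q₂)
    (h₁ : C₁ ≤ center Q₁) (h₂ : C₂ ≤ center Q₂) (π₁ : Q₁ → V) (π₂ : Q₂ → V)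
    (m₁ : ∀ x y, π₁ (x * y) = π₁ x + π₁ y) (s₁ : Function.Surjective π₁)
    (k₁ : ∀ x, π₁ x = 0 ↔ x ∈ C₁)
    (m₂ : ∀ x y, π₂ (x * y) = π₂ x + π₂ y) (s₂ : Function.Surjective π₂)
    (k₂ : ∀ x, π₂ x = 0 ↔ x ∈ C₂)
    (ι : Q₁ → Q₂) (hιm : ∀ x ∈ C₁, ∀ y ∈ C₁, ι (x * y) = ι x * ι y)
    (hιC : ∀ x ∈ C₁, ι x ∈ C₂) (hιi : ∀ x ∈ C₁, ι x = 1 → x = 1)
    (hιs : ∀ y ∈ C₂, ∃ x ∈ C₁, ι x = y)
    (hsq : ∀ x y, π₁ x = π₂ y → ι (x * x) = y * y) : Nonempty (Q₁ ≃* Q₂) := by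
  have i1 : ∀ x, π₁ x⁻¹ = π₁ x := fun x => by
    have h := m₁ x x⁻¹
    rw [mul_inv_cancel, (k₁ 1).2 (one_mem _)] at h
    rw [← add_zero (π₁ x⁻¹), ← hV (π₁ x), ← add_assoc, add_comm (π₁ x⁻¹), ← h, zero_add]
  have i2 : ∀ x, π₂ x⁻¹ = π₂ x := fun x => by
    have h := m₂ x x⁻¹
    rw [mul_inv_cancel, (k₂ 1).2 (one_mem _)] at h
    rw [← add_zero (π₂ x⁻¹), ← hV (π₂ x), ← add_assoc, add_comm (π₂ x⁻¹), ← h, zero_add]
  have hι1 : ι 1 = 1 := by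
    have h := hιm 1 C₁.one_mem 1 C₁.one_mem
    rw [one_mul] at h
    exact left_eq_mul.1 h
  let P : Subgroup (Q₁ × Q₂) :=
    { carrier := {x | π₁ x.1 = π₂ x.2}
      one_mem' := ((k₁ 1).2 (one_mem _)).trans ((k₂ 1).2 (one_mem _)).symm
      mul_mem' := fun {a b} (ha : π₁ _ = π₂ _) (hb : π₁ _ = π₂ _) =>
        show π₁ _ = π₂ _ by rw [Prod.fst_mul, Prod.snd_mul, m₁, m₂, ha, hb]
      inv_mem' := fun {a} (ha : π₁ _ = π₂ _) =>
        show π₁ _ = π₂ _ by rw [Prod.fst_inv, Prod.snd_inv, i1, i2, ha] }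
  let Δ : Subgroup P :=
    { carrier := {x | x.1.1 ∈ C₁ ∧ ι x.1.1 = x.1.2}
      one_mem' := ⟨C₁.one_mem, hι1⟩
      mul_mem' := fun {a b} ha hb => ⟨C₁.mul_mem ha.1 hb.1, by
        show ι (a.1.1 * b.1.1) = a.1.2 * b.1.2
        rw [hιm _ ha.1 _ hb.1, ha.2, hb.2]⟩
      inv_mem' := fun {a} ha => ⟨C₁.inv_mem ha.1, by
        show ι a.1.1⁻¹ = a.1.2⁻¹
        rw [← ha.2]
        refine eq_inv_of_mul_eq_one_left ?_
        rw [← hιm _ (C₁.inv_mem ha.1) _ ha.1, inv_mul_cancel, hι1]⟩ }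
  have hΔ : Δ.Normal := ⟨fun a ha g => by
    have e : g * a * g⁻¹ = a := by
      refine Subtype.ext (Prod.ext ?_ ?_)
      · show g.1.1 * a.1.1 * g.1.1⁻¹ = a.1.1
        rw [mem_center_iff.1 (h₁ ha.1) g.1.1, mul_inv_cancel_right]
      · show g.1.2 * a.1.2 * g.1.2⁻¹ = a.1.2
        rw [mem_center_iff.1 (h₂ (by rw [← ha.2]; exact hιC _ ha.1 : a.1.2 ∈ C₂)) g.1.2,
          mul_inv_cancel_right]
    rwa [e]⟩
  have hsqA : ∀ a : P ⧸ Δ, a * a = 1 := fun a => by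
    obtain ⟨x, rfl⟩ := QuotientGroup.mk_surjective a
    rw [← QuotientGroup.mk_mul, QuotientGroup.eq_one_iff]
    refine ⟨?_, hsq _ _ x.2⟩
    refine (k₁ _).1 ?_
    show π₁ (x.1.1 * x.1.1) = 0
    rw [m₁, hV]
  have hcommA : ∀ a b : P ⧸ Δ, a * b = b * a := fun a b => by
    have hi : ∀ c : P ⧸ Δ, c⁻¹ = c := fun c => inv_eq_of_mul_eq_one_left (hsqA c)
    calc a * b = (a * b)⁻¹ := (hi _).symm
      _ = b * a := by rw [mul_inv_rev, hi, hi]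
  let D : Subgroup (P ⧸ Δ) :=
    (({ carrier := {x : P | x.1.1 = 1}
        one_mem' := rfl
        mul_mem' := fun {a b} (ha : a.1.1 = 1) (hb : b.1.1 = 1) =>
          show a.1.1 * b.1.1 = 1 by rw [ha, hb, one_mul]
        inv_mem' := fun {a} (ha : a.1.1 = 1) => show a.1.1⁻¹ = 1 by rw [ha, inv_one] } :
      Subgroup P)).map (QuotientGroup.mk' Δ)
  haveI : Finite (P ⧸ Δ) := Quotient.finite _
  obtain ⟨Γ, hΓD, hmax⟩ := Set.exists_max_image {H : Subgroup (P ⧸ Δ) | H ⊓ D = ⊥}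
    (fun H => Nat.card H) (Set.toFinite _) ⟨⊥, bot_inf_eq _⟩
  have hfull : ∀ u : P ⧸ Δ, ∃ γ ∈ Γ, ∃ d ∈ D, u = γ * d := by
    intro u
    by_contra hno
    push Not at hno
    have huΓ : u ∉ Γ := fun e => hno u e 1 D.one_mem (mul_one u).symm
    let Γ' : Subgroup (P ⧸ Δ) :=
      { carrier := {x | x ∈ Γ ∨ u * x ∈ Γ}
        one_mem' := Or.inl Γ.one_mem
        mul_mem' := fun {a b} ha hb => by
          rcases ha with ha | ha <;> rcases hb with hb | hb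
          · exact Or.inl (Γ.mul_mem ha hb)
          · right
            rw [← mul_assoc, hcommA u a, mul_assoc]
            exact Γ.mul_mem ha hb
          · right
            rw [← mul_assoc]
            exact Γ.mul_mem ha hb
          · left
            have h := Γ.mul_mem ha hb
            rwa [mul_assoc, ← mul_assoc a, hcommA a u, mul_assoc, ← mul_assoc, hsqA, one_mul] at h
        inv_mem' := fun {a} ha => by
          rwa [inv_eq_of_mul_eq_one_left (hsqA a)] }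
    have hlt : Γ < Γ' := lt_of_le_of_ne (fun x hx => Or.inl hx) fun e => huΓ
      (e ▸ (Or.inr (by rw [hsqA]; exact Γ.one_mem) : u ∈ Γ'))
    have hd : Γ' ⊓ D = ⊥ := by
      rw [eq_bot_iff]
      rintro x ⟨hx | hx, hxD⟩
      · exact hΓD ▸ ⟨hx, hxD⟩
      · exact absurd (by rw [mul_assoc, hsqA, mul_one]) (hno _ hx x hxD)
    exact hlt.ne (eq_of_le_of_card_ge hlt.le (hmax Γ' hd))
  let G : Subgroup P := Γ.comap (QuotientGroup.mk' Δ)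
  have hΔG : Δ ≤ G := fun x hx => by
    show (x : P ⧸ Δ) ∈ Γ
    rw [(QuotientGroup.eq_one_iff x).2 hx]; exact Γ.one_mem
  have hG1 : ∀ x ∈ G, x.1.1 = 1 → x.1.2 = 1 := by
    intro x hx e
    have h0 : (x : P ⧸ Δ) = 1 := by
      rw [← mem_bot (G := P ⧸ Δ), ← hΓD]
      exact ⟨hx, ⟨x, e, rfl⟩⟩
    obtain ⟨-, hι⟩ := (QuotientGroup.eq_one_iff x).1 h0
    rw [← hι, e, hι1]
  have hG2 : ∀ x ∈ G, x.1.2 = 1 → x.1.1 = 1 := by
    intro x hx e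
    have hx1 : x.1.1 ∈ C₁ := (k₁ _).1 (x.2.trans ((k₂ _).2 (e ▸ C₂.one_mem)))
    have hmem : (x.1.1, ι x.1.1) ∈ P :=
      ((k₁ _).2 hx1).trans ((k₂ _).2 (hιC _ hx1)).symm
    have hd : (⟨_, hmem⟩ : P) ∈ G := hΔG ⟨hx1, rfl⟩
    have := hG1 _ (G.mul_mem hd (G.inv_mem hx)) (mul_inv_cancel x.1.1)
    refine hιi _ hx1 ?_
    have h' : ι x.1.1 * x.1.2⁻¹ = 1 := this
    rwa [e, inv_one, mul_one] at h'
  have hG3 : ∀ x : P, ∃ γ ∈ G, γ.1.1 = x.1.1 := by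
    intro x
    obtain ⟨γ, hγ, _, ⟨y, hy, rfl⟩, e⟩ := hfull x
    obtain ⟨g, rfl⟩ := QuotientGroup.mk_surjective γ
    have hδ : (g * y)⁻¹ * x ∈ Δ := QuotientGroup.eq.1 e.symm
    refine ⟨g * ((g * y)⁻¹ * x), G.mul_mem hγ (hΔG hδ), ?_⟩
    show g.1.1 * ((g.1.1 * y.1.1)⁻¹ * x.1.1) = x.1.1
    rw [show y.1.1 = 1 from hy, mul_one, mul_inv_cancel_left]
  let f : G →* Q₁ := (MonoidHom.fst Q₁ Q₂).comp (P.subtype.comp G.subtype)
  let f' : G →* Q₂ := (MonoidHom.snd Q₁ Q₂).comp (P.subtype.comp G.subtype)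
  have hf : Function.Bijective f := by
    refine ⟨(injective_iff_map_eq_one f).2 fun x hx => ?_, fun a => ?_⟩
    · exact Subtype.ext (Subtype.ext (Prod.ext hx (hG1 _ x.2 hx)))
    · obtain ⟨b, hb⟩ := s₂ (π₁ a)
      obtain ⟨γ, hγ, e⟩ := hG3 ⟨(a, b), hb.symm⟩
      exact ⟨⟨γ, hγ⟩, e⟩
  have hf' : Function.Injective f' := (injective_iff_map_eq_one f').2 fun x hx =>
    Subtype.ext (Subtype.ext (Prod.ext (hG2 _ x.2 hx) hx))
  have hsurj : Function.Surjective f' := by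
    intro b
    obtain ⟨a, ha⟩ := s₁ (π₂ b)
    obtain ⟨γ, hγ, e⟩ := hG3 ⟨(a, b), ha⟩
    have hc : γ.1.2⁻¹ * b ∈ C₂ := (k₂ _).1 (by
      rw [m₂, i2, ← γ.2, show γ.1.1 = a from e, ha, hV])
    obtain ⟨c, hc1, hc2⟩ := hιs _ hc
    have hmem : (c, γ.1.2⁻¹ * b) ∈ P := ((k₁ _).2 hc1).trans ((k₂ _).2 hc).symm
    refine ⟨⟨γ * ⟨_, hmem⟩, G.mul_mem hγ (hΔG ⟨hc1, hc2⟩)⟩, ?_⟩
    show γ.1.2 * (γ.1.2⁻¹ * b) = b
    rw [mul_inv_cancel_left]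
  exact ⟨(MulEquiv.ofBijective f hf).symm.trans (MulEquiv.ofBijective f' ⟨hf', hsurj⟩)⟩

end Cfsg.Agent.SingerTwo
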