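import Cfsg.Agent.SingerTwo.Quot

/-!
# The structure theorem
-/

set_option autoImplicit false
set_option linter.unusedSectionVars false

namespace Cfsg.Agent.SingerTwo

open Subgroup
open scoped commutatorElement

universe u

variable {Q : Type u} [Group Q] [Finite Q] {K : Type*} [Field K] {l : K} {α ρ : MulAut Q}
  {C : Subgroup Q} {κ : Q → K}

namespace Sing

variable (h : Sing Q K l α ρ C κ)

include h

theorem κ_comm {x y : Q} (hxy : ⁅x, y⁆ ∈ C) : κ ⁅y, x⁆ = κ ⁅x, y⁆ := by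
  rw [← commutatorElement_inv, h.inv_C hxy]

/-- The quotient data in the case of a cyclic centre. -/
theorem setup (hnc : center Q ≠ ⊤) :
    C ≤ center Q ∧ (∀ z ∈ center Q, z * z = 1 → z ∈ C) ∧
    ∃ (α' ρ' : MulAut (Q ⧸ center Q)) (C' : Subgroup (Q ⧸ center Q)) (κ' : Q ⧸ center Q → K),
      Sing (Q ⧸ center Q) K l α' ρ' C' κ' ∧
      (∀ x : Q, α' x = (α x : Q)) ∧ (∀ x : Q, ρ' x = (ρ x : Q)) ∧
      (∀ x : Q, (x : Q ⧸ center Q) ∈ C' ↔ α x * x⁻¹ ∈ center Q) ∧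
      ∃ πZ : Q → K, (∀ x ∈ center Q, ∀ y ∈ center Q, πZ (x * y) = πZ x + πZ y) ∧
        ∀ x ∈ center Q, (πZ x = 0 ↔ ∃ y ∈ center Q, y * y = x) ∧
          (πZ x = 0 ↔ ∃ y ∈ center Q, α y * y⁻¹ = x) := by
  haveI : Fact (Nat.Prime 2) := ⟨Nat.prime_two⟩
  haveI : Nontrivial Q := (nontrivial_iff (G := Q)).1
    ⟨center Q, ⊤, hnc⟩
  have hne : center Q ≠ ⊥ := (nontrivial_iff_ne_bot _).1 h.hp.center_nontrivial
  have hCZ := h.C_le inv_center hne
  rcases h.abelian inv_center hne fun x hx y _ => (mem_center_iff.1 hx y).symm with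
    ⟨hsq, -, hex⟩ | ⟨hB, π, hm, -, hρ, h0⟩
  · obtain ⟨x, hx, hxZ⟩ := h.exists_moved hnc
    set z := α x * x⁻¹ with hz
    have hz2 := hsq z hx
    have hzC : z ∈ C := by
      rw [h.hC, hz, map_mul, map_inv, h.hα, ← hz]
      calc x * (α x)⁻¹ = z⁻¹ := by rw [hz, mul_inv_rev, inv_inv]
        _ = z := inv_eq_of_mul_eq_one_left hz2
    obtain ⟨e, he, hαe⟩ := hex z hzC
    have hxe : x * e ∈ C := by
      rw [h.hC, map_mul, hαe, show α x = z * x by rw [hz, inv_mul_cancel_right]]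
      calc z * x * (z * e) = z * (x * z) * e := by simp only [mul_assoc]
        _ = z * (z * x) * e := by rw [mem_center_iff.1 hx x]
        _ = x * e := by rw [← mul_assoc z z, hz2, one_mul]
    exact absurd (by simpa using (center Q).mul_mem (hCZ hxe) ((center Q).inv_mem he)) hxZ
  · refine ⟨hCZ, hB, ?_⟩
    obtain ⟨α', ρ', C', κ', hS, hα', hρ', hC', -⟩ :=
      h.quot π hm hρ (fun x hx => (h0.2 x hx)) hCZ hnc
    exact ⟨α', ρ', C', κ', hS, hα', hρ', hC', π, hm, fun x hx => ⟨h0.1 x hx, h0.2 x hx⟩⟩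

variable {α' ρ' : MulAut (Q ⧸ center Q)} {C' : Subgroup (Q ⧸ center Q)}
  {κ' : Q ⧸ center Q → K}

/-- Commutators with an element of the lifted line. -/
theorem comm_mem (hB : ∀ z ∈ center Q, z * z = 1 → z ∈ C) {w y : Q}
    (hc : ⁅w, y⁆ ∈ center Q) (hw : w * w ∈ center Q) : ⁅w, y⁆ ∈ C := by
  refine hB _ hc ?_
  rw [← comm_mul_left hc]
  exact commutatorElement_eq_one_iff_mul_comm.2 (mem_center_iff.1 hw y).symm

/-- The lifted line is abelian. -/
theorem line_comm (hCZ : C ≤ center Q) (hB : ∀ z ∈ center Q, z * z = 1 → z ∈ C)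
    (hS : Sing (Q ⧸ center Q) K l α' ρ' C' κ') (hρ' : ∀ x : Q, ρ' x = (ρ x : Q))
    (hC'Z : C' ≤ center (Q ⧸ center Q)) {x y : Q} (hx : (x : Q ⧸ center Q) ∈ C')
    (hy : (y : Q ⧸ center Q) ∈ C') : x * y = y * x := by
  let W : Subgroup Q := C'.comap (QuotientGroup.mk' _)
  have hW2 : ∀ a ∈ W, a * a ∈ center Q := fun a ha => by
    rw [← QuotientGroup.eq_one_iff, QuotientGroup.mk_mul]
    exact hS.sq_C ha
  have hWc : ∀ a ∈ W, ∀ b : Q, ⁅a, b⁆ ∈ center Q := fun a ha b => by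
    rw [← QuotientGroup.eq_one_iff]
    exact (map_commutatorElement (QuotientGroup.mk' (center Q)) a b).trans
      (commutatorElement_eq_one_iff_mul_comm.2 (mem_center_iff.1 (hC'Z ha) _).symm)
  have hC2 : ∀ a ∈ W, ∀ b : Q, ⁅a, b⁆ ∈ C := fun a ha b =>
    h.comm_mem hB (hWc a ha b) (hW2 a ha)
  have hρW : ∀ a ∈ W, ρ a ∈ W ∧ κ' (ρ a : Q) = l • κ' (a : Q) := fun a ha => by
    refine ⟨?_, ?_⟩
    · show ((ρ a : Q) : Q ⧸ center Q) ∈ C'
      rw [← hρ']; exact (hS.invC _ ha).2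
    · rw [← hρ', smul_eq_mul]; exact hS.κ_rho _ ha
  have hker : ∀ a ∈ W, κ' (a : Q) = 0 → a ∈ center Q := fun a ha e =>
    (QuotientGroup.eq_one_iff a).1 (hS.κ_inj _ ha e)
  have hs : ∀ k, ∃ a ∈ W, κ' (a : Q) = k := fun k => by
    obtain ⟨u, hu, e⟩ := hS.κ_surj k
    obtain ⟨a, rfl⟩ := QuotientGroup.mk_surjective u
    exact ⟨a, hu, e⟩
  obtain ⟨g, hg, hgf⟩ := descend h.gen (ρ := ρ) (W := W) (Y := W) (fun a => κ' (a : Q))
    (fun a => κ' (a : Q)) (fun a ha b hb => hS.κ_mul _ ha _ hb) hs hρW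
    (fun a ha b hb => hS.κ_mul _ ha _ hb) hs hρW (fun a b => κ ⁅a, b⁆)
    (fun a ha a' ha' b _ => by
      rw [comm_mul_left (hWc a' ha' b), h.κ_mul _ (hC2 a ha b) _ (hC2 a' ha' b)])
    (fun a ha b _ b' _ => by
      rw [comm_mul_right (hWc a ha b'), h.κ_mul _ (hC2 a ha b) _ (hC2 a ha b')])
    (fun a ha b _ => by rw [← map_commutatorElement, h.κ_rho _ (hC2 a ha b)])
    (fun a ha b _ e => by
      rw [commutatorElement_eq_one_iff_mul_comm.2 (mem_center_iff.1 (hker a ha e) b).symm, h.κ_one])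
    (fun a ha b hb e => by
      rw [commutatorElement_eq_one_iff_mul_comm.2 (mem_center_iff.1 (hker b hb e) a), h.κ_one])
  have h11 : g 1 1 = 0 := by
    obtain ⟨a, ha, e⟩ := hs 1
    have := hgf a ha a ha
    simp only [e] at this
    rw [← this, commutatorElement_self, h.κ_one]
    simp
  refine commutatorElement_eq_one_iff_mul_comm.1 (h.κ_inj _ (hC2 x hx y) ?_)
  have := hgf x hx y hy
  rw [alt_line g hg h11] at this
  exact eq_zero_of_pow_eq_zero this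

end Sing

end Cfsg.Agent.SingerTwo
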