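import Cfsg.Agent.SingerTwo.Abelian

/-!
# The quotient by the centre, and descent of biadditive maps
-/

set_option autoImplicit false
set_option linter.unusedSectionVars false

namespace Cfsg.Agent.SingerTwo

open Subgroup
open scoped commutatorElement

universe u

variable {Q : Type u} [Group Q] [Finite Q] {K : Type*} [Field K] {l : K} {α ρ : MulAut Q}
  {C : Subgroup Q} {κ : Q → K}

/-- The form of the groups that are not abelian. -/
def Spec (α ρ : MulAut Q) (K : Type*) [Field K] (l : K) (C : Subgroup Q) : Prop :=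
  C ≤ center Q ∧ (∀ x, x * x ∈ C) ∧ (∀ x y : Q, ⁅x, y⁆ ∈ C) ∧ (∃ x, α x * x⁻¹ ∉ C) ∧
    ∃ π : Q → K × K, (∀ x y, π (x * y) = π x + π y) ∧ Function.Surjective π ∧
      (∀ x, π x = 0 ↔ x ∈ C) ∧ ∀ x, π (ρ x) = l • π x

theorem comm_mul_left {a b c : Q} (hb : ⁅b, c⁆ ∈ center Q) :
    ⁅a * b, c⁆ = ⁅a, c⁆ * ⁅b, c⁆ := by
  have h := mem_center_iff.1 hb
  calc ⁅a * b, c⁆ = a * ⁅b, c⁆ * (c * a⁻¹ * c⁻¹) := by simp [commutatorElement_def, mul_assoc]
    _ = ⁅b, c⁆ * (a * (c * a⁻¹ * c⁻¹)) := by rw [h a]; simp only [mul_assoc]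
    _ = (a * (c * a⁻¹ * c⁻¹)) * ⁅b, c⁆ := (h _).symm
    _ = ⁅a, c⁆ * ⁅b, c⁆ := by rw [commutatorElement_def a c]; simp only [mul_assoc]

theorem comm_mul_right {a b c : Q} (hc : ⁅a, c⁆ ∈ center Q) :
    ⁅a, b * c⁆ = ⁅a, b⁆ * ⁅a, c⁆ := by
  have h := mem_center_iff.1 hc
  calc ⁅a, b * c⁆ = ⁅a, b⁆ * (b * ⁅a, c⁆ * b⁻¹) := by simp [commutatorElement_def, mul_assoc]
    _ = ⁅a, b⁆ * ⁅a, c⁆ := by rw [h b, mul_assoc ⁅a, c⁆ b, mul_inv_cancel, mul_one]

/-- Biadditive equivariant maps come from bilinear maps on the coordinates. -/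
theorem descend (hK : Gen K l) {ρ : MulAut Q} {W Y : Subgroup Q} {U V : Type*}
    [AddCommGroup U] [AddCommGroup V] [Module K U] [Module K V] (p : Q → U) (q : Q → V)
    (hp : ∀ x ∈ W, ∀ y ∈ W, p (x * y) = p x + p y) (hps : ∀ u, ∃ x ∈ W, p x = u)
    (hpρ : ∀ x ∈ W, ρ x ∈ W ∧ p (ρ x) = l • p x)
    (hq : ∀ x ∈ Y, ∀ y ∈ Y, q (x * y) = q x + q y) (hqs : ∀ v, ∃ x ∈ Y, q x = v)
    (hqρ : ∀ x ∈ Y, ρ x ∈ Y ∧ q (ρ x) = l • q x)
    (f : Q → Q → K)
    (hf₁ : ∀ x ∈ W, ∀ x' ∈ W, ∀ y ∈ Y, f (x * x') y = f x y + f x' y)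
    (hf₂ : ∀ x ∈ W, ∀ y ∈ Y, ∀ y' ∈ Y, f x (y * y') = f x y + f x y')
    (hfρ : ∀ x ∈ W, ∀ y ∈ Y, f (ρ x) (ρ y) = l * f x y)
    (hfp : ∀ x ∈ W, ∀ y ∈ Y, p x = 0 → f x y = 0) (hfq : ∀ x ∈ W, ∀ y ∈ Y, q y = 0 → f x y = 0) :
    ∃ g : U →+ V →+ K, (∀ (a b : K) u v, g (a • u) (b • v) = a * b * g u v) ∧
      ∀ x ∈ W, ∀ y ∈ Y, f x y ^ 2 = g (p x) (q y) := by
  have wd : ∀ x ∈ W, ∀ x' ∈ W, ∀ y ∈ Y, ∀ y' ∈ Y, p x = p x' → q y = q y' → f x y = f x' y' := by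
    intro x hx x' hx' y hy y' hy' ep eq
    have e1 : f x y = f x' y := by
      have hd : p (x * x'⁻¹) = 0 := by
        have h1 := hp _ (W.mul_mem hx (W.inv_mem hx')) x' hx'
        rw [inv_mul_cancel_right, ep] at h1
        simpa using h1.symm
      have h := hf₁ _ (W.mul_mem hx (W.inv_mem hx')) x' hx' y hy
      rw [inv_mul_cancel_right, hfp _ (W.mul_mem hx (W.inv_mem hx')) y hy hd, zero_add] at h
      exact h
    have e2 : f x' y = f x' y' := by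
      have hd : q (y * y'⁻¹) = 0 := by
        have h1 := hq _ (Y.mul_mem hy (Y.inv_mem hy')) y' hy'
        rw [inv_mul_cancel_right, eq] at h1
        simpa using h1.symm
      have h := hf₂ x' hx' _ (Y.mul_mem hy (Y.inv_mem hy')) y' hy'
      rw [inv_mul_cancel_right, hfq x' hx' _ (Y.mul_mem hy (Y.inv_mem hy')) hd, zero_add] at h
      exact h
    exact e1.trans e2
  choose sp hspW hsp using hps
  choose sq hsqY hsq using hqs
  let g : U →+ V →+ K :=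
    AddMonoidHom.mk' (fun u => AddMonoidHom.mk' (fun v => f (sp u) (sq v) ^ 2) fun v v' => by
      rw [← hK.add_sq, ← hf₂ _ (hspW u) _ (hsqY v) _ (hsqY v')]
      exact congrArg (· ^ 2) (wd _ (hspW u) _ (hspW u) _ (hsqY _) _
        (Y.mul_mem (hsqY v) (hsqY v')) rfl (by rw [hq _ (hsqY v) _ (hsqY v'), hsq, hsq, hsq])))
      fun u u' => AddMonoidHom.ext fun v => by
        show f (sp (u + u')) (sq v) ^ 2 = f (sp u) (sq v) ^ 2 + f (sp u') (sq v) ^ 2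
        rw [← hK.add_sq, ← hf₁ _ (hspW u) _ (hspW u') _ (hsqY v)]
        exact congrArg (· ^ 2) (wd _ (hspW _) _ (W.mul_mem (hspW u) (hspW u')) _ (hsqY v) _
          (hsqY v) (by rw [hp _ (hspW u) _ (hspW u'), hsp, hsp, hsp]) rfl)
  refine ⟨g, fun a b u v => hK.bilinear g (fun u v => ?_) a b u v, fun x hx y hy => ?_⟩
  · show f (sp (l • u)) (sq (l • v)) ^ 2 = l ^ 2 * f (sp u) (sq v) ^ 2
    rw [← mul_pow, ← hfρ _ (hspW u) _ (hsqY v)]
    obtain ⟨h1, h1'⟩ := hpρ _ (hspW u)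
    obtain ⟨h2, h2'⟩ := hqρ _ (hsqY v)
    exact congrArg (· ^ 2) (wd _ (hspW _) _ h1 _ (hsqY _) _ h2 (by rw [h1', hsp, hsp])
      (by rw [h2', hsq, hsq]))
  · exact congrArg (· ^ 2) (wd x hx _ (hspW _) y hy _ (hsqY _) (hsp _).symm (hsq _).symm)

/-- An alternating bilinear map on a line vanishes. -/
theorem alt_line (g : K →+ K →+ K) (hg : ∀ (a b : K) u v, g (a • u) (b • v) = a * b * g u v)
    (halt : g 1 1 = 0) (u v : K) : g u v = 0 := by
  have := hg u v 1 1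
  rwa [halt, mul_zero, smul_eq_mul, smul_eq_mul, mul_one, mul_one] at this

namespace Sing

variable (h : Sing Q K l α ρ C κ)

include h

/-- An element outside the centre whose displacement is central. -/
theorem exists_moved (hnc : center Q ≠ ⊤) : ∃ x₀ : Q, α x₀ * x₀⁻¹ ∈ center Q ∧ x₀ ∉ center Q := by
  have hmap : ∀ f : MulAut Q, (center Q).map f.toMonoidHom = center Q := fun f =>
    characteristic_iff_map_eq.1 inferInstance f
  haveI : Nontrivial (Q ⧸ center Q) := by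
    obtain ⟨x, -, hx⟩ := SetLike.exists_of_lt (lt_top_iff_ne_top.2 hnc)
    exact ⟨⟨x, 1, fun e => hx ((QuotientGroup.eq_one_iff x).1 e)⟩⟩
  haveI : Fact (Nat.Prime 2) := ⟨Nat.prime_two⟩
  by_contra hno
  push Not at hno
  let α' : MulAut (Q ⧸ center Q) := QuotientGroup.congr _ _ α (hmap α)
  have hα' : ∀ x : Q, α' x = (α x : Q) := fun x => rfl
  let f : Equiv.Perm {u : Q ⧸ center Q // u ≠ 1} :=
    (α'.toEquiv).subtypeEquiv fun u => by
      rw [MulEquiv.toEquiv_eq_coe, MulEquiv.coe_toEquiv, ne_eq, ne_eq, not_iff_not,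
        MulEquiv.map_eq_one_iff]
  have hd : 2 ∣ Nat.card {u : Q ⧸ center Q // u ≠ 1} := by
    refine dvd_of_free f (Equiv.ext fun u => ?_) fun u e => u.2 ?_
    · rw [pow_two]
      refine Subtype.ext ?_
      obtain ⟨x, hx⟩ := QuotientGroup.mk_surjective u.1
      show α' (α' u.1) = u.1
      rw [← hx, hα', hα', h.hα]
    · obtain ⟨x, hx⟩ := QuotientGroup.mk_surjective u.1
      rw [← hx, QuotientGroup.eq_one_iff]
      refine hno x ?_
      rw [← div_eq_mul_inv, ← QuotientGroup.eq_iff_div_mem, ← hα', hx]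
      exact congrArg Subtype.val e
  obtain ⟨k, hk⟩ := (IsPGroup.iff_card (p := 2)).1 (h.hp.to_quotient (center Q))
  have hk0 : k ≠ 0 := fun e => by
    rw [e, pow_zero] at hk
    exact (Finite.one_lt_card (α := Q ⧸ center Q)).ne' hk
  have hsum : Nat.card {u : Q ⧸ center Q // u ≠ 1} + 1 = Nat.card (Q ⧸ center Q) := by
    classical
    rw [← Nat.card_congr (Equiv.sumCompl fun u : Q ⧸ center Q => u = 1), Nat.card_sum,
      Nat.card_unique (α := {u : Q ⧸ center Q // u = 1}), add_comm]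
  have h2 : 2 ∣ Nat.card (Q ⧸ center Q) := hk ▸ dvd_pow_self 2 hk0
  omega

/-- The quotient by the centre. -/
theorem quot (πZ : Q → K)
    (hπm : ∀ x ∈ center Q, ∀ y ∈ center Q, πZ (x * y) = πZ x + πZ y)
    (hπρ : ∀ x ∈ center Q, πZ (ρ x) = l * πZ x)
    (hπ0 : ∀ x ∈ center Q, (πZ x = 0 ↔ ∃ y ∈ center Q, α y * y⁻¹ = x))
    (hCZ : C ≤ center Q) (hnc : center Q ≠ ⊤) :
    ∃ (α' ρ' : MulAut (Q ⧸ center Q)) (C' : Subgroup (Q ⧸ center Q)) (κ' : Q ⧸ center Q → K),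
      Sing (Q ⧸ center Q) K l α' ρ' C' κ' ∧
      (∀ x : Q, α' x = (α x : Q)) ∧ (∀ x : Q, ρ' x = (ρ x : Q)) ∧
      (∀ x : Q, (x : Q ⧸ center Q) ∈ C' ↔ α x * x⁻¹ ∈ center Q) ∧
      (∀ x : Q, α x * x⁻¹ ∈ center Q → κ' (x : Q ⧸ center Q) = πZ (α x * x⁻¹)) := by
  haveI : (center Q).Characteristic := inferInstance
  have hmap : ∀ f : MulAut Q, (center Q).map f.toMonoidHom = center Q := fun f =>
    characteristic_iff_map_eq.1 inferInstance f
  let α' : MulAut (Q ⧸ center Q) := QuotientGroup.congr _ _ α (hmap α)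
  let ρ' : MulAut (Q ⧸ center Q) := QuotientGroup.congr _ _ ρ (hmap ρ)
  have hα' : ∀ x : Q, α' x = (α x : Q) := fun x => rfl
  have hρ' : ∀ x : Q, ρ' x = (ρ x : Q) := fun x => rfl
  have hρ'n : ∀ n (x : Q), (ρ' ^ n) x = ((ρ ^ n) x : Q) := fun n x => by
    induction n with
    | zero => simp
    | succ n ih => rw [pow_succ', MulAut.mul_apply, ih, pow_succ', MulAut.mul_apply]; rfl
  let C' : Subgroup (Q ⧸ center Q) :=
    { carrier := {u | α' u = u}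
      one_mem' := map_one _
      mul_mem' := fun {a b} ha hb => by
        show α' (a * b) = a * b
        rw [map_mul, ha, hb]
      inv_mem' := fun {a} ha => by
        show α' a⁻¹ = a⁻¹
        rw [map_inv, ha] }
  have hC' : ∀ x : Q, (x : Q ⧸ center Q) ∈ C' ↔ α x * x⁻¹ ∈ center Q := fun x => by
    show α' x = x ↔ _
    rw [hα', QuotientGroup.eq_iff_div_mem, div_eq_mul_inv]
  have hsplit : ∀ x y : Q, α y * y⁻¹ ∈ center Q →
      α (x * y) * (x * y)⁻¹ = (α x * x⁻¹) * (α y * y⁻¹) := fun x y hy => by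
    rw [map_mul, mul_inv_rev, mul_assoc (α x), ← mul_assoc (α y), ← mem_center_iff.1 hy x⁻¹,
      ← mul_assoc]
  let κ' : Q ⧸ center Q → K := fun u => πZ (α u.out * u.out⁻¹)
  have hκ' : ∀ x : Q, α x * x⁻¹ ∈ center Q → κ' (x : Q ⧸ center Q) = πZ (α x * x⁻¹) := by
    intro x hx
    obtain ⟨⟨z, hz⟩, e⟩ := QuotientGroup.mk_out_eq_mul (center Q) x
    have hz1 : α z * z⁻¹ ∈ center Q :=
      (center Q).mul_mem ((hmap α).le ⟨z, hz, rfl⟩) ((center Q).inv_mem hz)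
    show πZ (α _ * _) = _
    rw [e, hsplit x z hz1, hπm _ hx _ hz1, (hπ0 _ hz1).2 ⟨z, hz, rfl⟩, add_zero]
  have hequiv : ∀ x : Q, α x * x⁻¹ ∈ center Q → α (ρ x) * (ρ x)⁻¹ ∈ center Q ∧
      πZ (α (ρ x) * (ρ x)⁻¹) = l * πZ (α x * x⁻¹) := fun x hx => by
    rw [h.hc, ← map_inv, ← map_mul]
    exact ⟨(hmap ρ).le ⟨_, hx, rfl⟩, hπρ _ hx⟩
  refine ⟨α', ρ', C', κ', ⟨h.gen, h.big, h.hp.to_quotient _, ?_, ?_, ?_, fun u => Iff.rfl,
    ?_, ?_, ?_, ?_⟩, hα', hρ', hC', hκ'⟩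
  · intro u
    obtain ⟨x, rfl⟩ := QuotientGroup.mk_surjective u
    rw [hα', hα', h.hα]
  · intro u
    obtain ⟨x, rfl⟩ := QuotientGroup.mk_surjective u
    rw [hρ', hα', hα', hρ', h.hc]
  · refine MulEquiv.ext fun u => ?_
    obtain ⟨x, rfl⟩ := QuotientGroup.mk_surjective u
    rw [hρ'n, h.hρ]
    rfl
  · intro a ha b hb
    obtain ⟨x, rfl⟩ := QuotientGroup.mk_surjective a
    obtain ⟨y, rfl⟩ := QuotientGroup.mk_surjective b
    have hx := (hC' x).1 ha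
    have hy := (hC' y).1 hb
    have hxy := (hC' (x * y)).1 (C'.mul_mem ha hb)
    rw [← QuotientGroup.mk_mul, hκ' _ hxy, hκ' x hx, hκ' y hy, hsplit x y hy, hπm _ hx _ hy]
  · intro a ha e
    obtain ⟨x, rfl⟩ := QuotientGroup.mk_surjective a
    have hx := (hC' x).1 ha
    rw [hκ' x hx] at e
    obtain ⟨y, hy, ey⟩ := (hπ0 _ hx).1 e
    have h1 : x * y⁻¹ ∈ C := by
      have hy1 : α y⁻¹ * y⁻¹⁻¹ = (α y * y⁻¹)⁻¹ := by
        rw [map_inv, mul_inv_rev]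
        exact (mem_center_iff.1 ((center Q).inv_mem ((hmap α).le ⟨y, hy, rfl⟩)) y⁻¹⁻¹).symm
      rw [h.hC, ← mul_inv_eq_one, hsplit x y⁻¹ (by
        rw [hy1, ey]; exact (center Q).inv_mem hx), hy1, ey, mul_inv_cancel]
    rw [QuotientGroup.eq_one_iff]
    have := (center Q).mul_mem (hCZ h1) hy
    rwa [inv_mul_cancel_right] at this
  · -- a nonzero value
    haveI : Nontrivial (Q ⧸ center Q) := by
      obtain ⟨x, -, hx⟩ := SetLike.exists_of_lt (lt_top_iff_ne_top.2 hnc)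
      exact ⟨⟨x, 1, fun e => hx ((QuotientGroup.eq_one_iff x).1 e)⟩⟩
    haveI : Fact (Nat.Prime 2) := ⟨Nat.prime_two⟩
    obtain ⟨x₀, hx₀, hx₀Z⟩ := h.exists_moved hnc
    intro k
    rcases eq_or_ne k 0 with rfl | hk
    · refine ⟨1, C'.one_mem, ?_⟩
      rw [← QuotientGroup.mk_one, hκ' 1 (by simp [one_mem])]
      simpa using (hπ0 1 (one_mem _)).2 ⟨1, one_mem _, by simp⟩
    set k₀ := πZ (α x₀ * x₀⁻¹) with hk₀
    have hk₀0 : k₀ ≠ 0 := by
      intro e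
      obtain ⟨y, hy, ey⟩ := (hπ0 _ hx₀).1 e
      refine hx₀Z ?_
      have h1 : y⁻¹ * x₀ ∈ C := by
        rw [h.hC, map_mul, map_inv, show α x₀ = (α y * y⁻¹) * x₀ by rw [ey, inv_mul_cancel_right],
          mul_assoc, inv_mul_cancel_left]
      have := (center Q).mul_mem hy (hCZ h1)
      rwa [mul_inv_cancel_left] at this
    obtain ⟨i, hi⟩ := h.gen.gen (k / k₀) (div_ne_zero hk hk₀0)
    have hrec : ∀ j, α ((ρ ^ j) x₀) * ((ρ ^ j) x₀)⁻¹ ∈ center Q ∧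
        πZ (α ((ρ ^ j) x₀) * ((ρ ^ j) x₀)⁻¹) = l ^ j * k₀ := by
      intro j
      induction j with
      | zero => exact ⟨by simpa using hx₀, by simp [hk₀]⟩
      | succ j ih =>
        rw [pow_succ', MulAut.mul_apply]
        refine ⟨(hequiv _ ih.1).1, ?_⟩
        rw [(hequiv _ ih.1).2, ih.2, pow_succ']
        ring
    refine ⟨((ρ ^ i) x₀ : Q), (hC' _).2 (hrec i).1, ?_⟩
    rw [hκ' _ (hrec i).1, (hrec i).2, hi, div_mul_cancel₀ _ hk₀0]
  · intro a ha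
    obtain ⟨x, rfl⟩ := QuotientGroup.mk_surjective a
    have hx := (hC' x).1 ha
    rw [hρ', hκ' _ (hequiv x hx).1, (hequiv x hx).2, hκ' x hx]

end Sing

end Cfsg.Agent.SingerTwo
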