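import Cfsg.Agent.SingerTwo.Cases

/-!
# No third layer; the main theorem
-/

set_option autoImplicit false
set_option linter.unusedSectionVars false

namespace Cfsg.Agent.SingerTwo

open Subgroup
open scoped commutatorElement

universe u

variable {Q : Type u} [Group Q] [Finite Q] {K : Type*} [Field K] {l : K} {α ρ : MulAut Q}
  {C : Subgroup Q} {κ : Q → K}
  {α' ρ' : MulAut (Q ⧸ center Q)} {C' : Subgroup (Q ⧸ center Q)} {κ' : Q ⧸ center Q → K}

theorem Sing.not_three (h : Sing Q K l α ρ C κ) (hCZ : C ≤ center Q)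
    (hB : ∀ z ∈ center Q, z * z = 1 → z ∈ C) (hS : Sing (Q ⧸ center Q) K l α' ρ' C' κ')
    (hα' : ∀ x : Q, α' x = (α x : Q)) (hρ' : ∀ x : Q, ρ' x = (ρ x : Q))
    (hC' : ∀ x : Q, (x : Q ⧸ center Q) ∈ C' ↔ α x * x⁻¹ ∈ center Q)
    (hspec : Spec α' ρ' K l C') (hnab : ¬ ∀ a b : Q ⧸ center Q, a * b = b * a) : False := by
  obtain ⟨hCc, -, hcm', ⟨ū, hū⟩, π, hπm, hπs, hπ0, hπρ⟩ := hspec
  let W : Subgroup Q := C'.comap (QuotientGroup.mk' _)
  have hWmem : ∀ {a : Q}, a ∈ W ↔ (a : Q ⧸ center Q) ∈ C' := Iff.rfl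
  have hWsq : ∀ a ∈ W, a * a ∈ center Q := fun a ha => by
    rw [← QuotientGroup.eq_one_iff, QuotientGroup.mk_mul]
    exact hS.sq_C ha
  have hWc : ∀ a ∈ W, ∀ b : Q, ⁅a, b⁆ ∈ center Q := fun a ha b => by
    rw [← QuotientGroup.eq_one_iff]
    exact (map_commutatorElement (QuotientGroup.mk' (center Q)) a b).trans
      (commutatorElement_eq_one_iff_mul_comm.2 (mem_center_iff.1 (hCc ha) _).symm)
  have hC2 : ∀ a ∈ W, ∀ b : Q, ⁅a, b⁆ ∈ C := fun a ha b =>
    h.comm_mem hB (hWc a ha b) (hWsq a ha)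
  have hWab : ∀ a ∈ W, ∀ b ∈ W, a * b = b * a := fun a ha b hb =>
    h.line_comm hCZ hB hS hρ' hCc ha hb
  have hcW : ∀ a b : Q, ⁅a, b⁆ ∈ W := fun a b => by
    rw [hWmem]
    rw [show ((⁅a, b⁆ : Q) : Q ⧸ center Q) = ⁅(a : Q ⧸ center Q), (b : Q ⧸ center Q)⁆ from
      map_commutatorElement (QuotientGroup.mk' (center Q)) a b]
    exact hcm' _ _
  let p : Q → K := fun a => κ' (a : Q ⧸ center Q)
  let q : Q → K × K := fun a => π (a : Q ⧸ center Q)
  have hp : ∀ a ∈ W, ∀ b ∈ W, p (a * b) = p a + p b := fun a ha b hb => hS.κ_mul _ ha _ hb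
  have hps : ∀ k, ∃ a ∈ W, p a = k := fun k => by
    obtain ⟨v, hv, e⟩ := hS.κ_surj k
    obtain ⟨a, rfl⟩ := QuotientGroup.mk_surjective v
    exact ⟨a, hv, e⟩
  have hpρ : ∀ a ∈ W, ρ a ∈ W ∧ p (ρ a) = l • p a := fun a ha => by
    refine ⟨?_, ?_⟩
    · show ((ρ a : Q) : Q ⧸ center Q) ∈ C'
      rw [← hρ']; exact (hS.invC _ ha).2
    · show κ' ((ρ a : Q) : Q ⧸ center Q) = l • κ' (a : Q ⧸ center Q)
      rw [← hρ', smul_eq_mul]; exact hS.κ_rho _ ha
  have hp0 : ∀ a ∈ W, p a = 0 → a ∈ center Q := fun a ha e =>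
    (QuotientGroup.eq_one_iff a).1 (hS.κ_inj _ ha e)
  have hq : ∀ a b : Q, q (a * b) = q a + q b := fun a b =>
    hπm (a : Q ⧸ center Q) (b : Q ⧸ center Q)
  have hqs : ∀ v, ∃ a ∈ (⊤ : Subgroup Q), q a = v := fun v => by
    obtain ⟨x, e⟩ := hπs v
    obtain ⟨a, rfl⟩ := QuotientGroup.mk_surjective x
    exact ⟨a, mem_top a, e⟩
  have hqρ : ∀ a ∈ (⊤ : Subgroup Q), ρ a ∈ (⊤ : Subgroup Q) ∧ q (ρ a) = l • q a := fun a _ =>
    ⟨mem_top _, by show π ((ρ a : Q) : Q ⧸ center Q) = _; rw [← hρ', hπρ]⟩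
  have hq0 : ∀ a, q a = 0 → a ∈ W := fun a e => (hπ0 _).1 e
  -- commutators in the quotient
  obtain ⟨B, hB2, hBf⟩ := descend h.gen (ρ := ρ) (W := ⊤) (Y := ⊤) q q
    (fun a _ b _ => hq a b) hqs hqρ (fun a _ b _ => hq a b) hqs hqρ (fun a b => p ⁅a, b⁆)
    (fun a _ a' _ b _ => by
      rw [← hp _ (hcW a b) _ (hcW a' b)]
      show κ' _ = κ' _
      congr 1
      rw [show ((⁅a * a', b⁆ : Q) : Q ⧸ center Q) =
          ⁅(a : Q ⧸ center Q) * a', (b : Q ⧸ center Q)⁆ from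
          map_commutatorElement (QuotientGroup.mk' (center Q)) _ _,
        comm_mul_left (hCc (hcm' _ _))]
      exact congrArg₂ (· * ·) (map_commutatorElement (QuotientGroup.mk' (center Q)) _ _).symm
        (map_commutatorElement (QuotientGroup.mk' (center Q)) _ _).symm)
    (fun a _ b _ b' _ => by
      rw [← hp _ (hcW a b) _ (hcW a b')]
      show κ' _ = κ' _
      congr 1
      rw [show ((⁅a, b * b'⁆ : Q) : Q ⧸ center Q) =
          ⁅(a : Q ⧸ center Q), (b : Q ⧸ center Q) * b'⁆ from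
          map_commutatorElement (QuotientGroup.mk' (center Q)) _ _,
        comm_mul_right (hCc (hcm' _ _))]
      exact congrArg₂ (· * ·) (map_commutatorElement (QuotientGroup.mk' (center Q)) _ _).symm
        (map_commutatorElement (QuotientGroup.mk' (center Q)) _ _).symm)
    (fun a _ b _ => by
      rw [← map_commutatorElement, (hpρ _ (hcW a b)).2, smul_eq_mul])
    (fun a _ b _ e => by
      show κ' _ = 0
      rw [show ((⁅a, b⁆ : Q) : Q ⧸ center Q) = 1 from
        (map_commutatorElement (QuotientGroup.mk' (center Q)) a b).trans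
          (commutatorElement_eq_one_iff_mul_comm.2
            (mem_center_iff.1 (hCc (hq0 a e)) _).symm), hS.κ_one])
    (fun a _ b _ e => by
      show κ' _ = 0
      rw [show ((⁅a, b⁆ : Q) : Q ⧸ center Q) = 1 from
        (map_commutatorElement (QuotientGroup.mk' (center Q)) a b).trans
          (commutatorElement_eq_one_iff_mul_comm.2
            (mem_center_iff.1 (hCc (hq0 b e)) _)), hS.κ_one])
  -- commutators with the lifted line
  obtain ⟨g, hg, hgf⟩ := descend h.gen (ρ := ρ) (W := W) (Y := ⊤) p q hp hps hpρ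
    (fun a _ b _ => hq a b) hqs hqρ (fun a b => κ ⁅a, b⁆)
    (fun a ha a' ha' b _ => by
      rw [comm_mul_left (hWc a' ha' b), h.κ_mul _ (hC2 a ha b) _ (hC2 a' ha' b)])
    (fun a ha b _ b' _ => by
      rw [comm_mul_right (hWc a ha b'), h.κ_mul _ (hC2 a ha b) _ (hC2 a ha b')])
    (fun a ha b _ => by rw [← map_commutatorElement, h.κ_rho _ (hC2 a ha b)])
    (fun a ha b _ e => by
      rw [commutatorElement_eq_one_iff_mul_comm.2 (mem_center_iff.1 (hp0 a ha e) b).symm, h.κ_one])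
    (fun a ha b _ e => by
      rw [commutatorElement_eq_one_iff_mul_comm.2 (hWab a ha b (hq0 b e)), h.κ_one])
  have hBaa : ∀ v, B v v = 0 := fun v => by
    obtain ⟨a, -, rfl⟩ := hqs v
    rw [← hBf a (mem_top _) a (mem_top _), commutatorElement_self]
    show κ' ((1 : Q) : Q ⧸ center Q) ^ 2 = 0
    rw [QuotientGroup.mk_one, hS.κ_one]
    simp
  set c := B (1, 0) (0, 1) with hc
  have hsplit : ∀ v : K × K, v = v.1 • ((1, 0) : K × K) + v.2 • ((0, 1) : K × K) := fun v => by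
    ext <;> simp
  have hB21 : B (0, 1) (1, 0) = c := by
    have := hBaa ((1, 0) + (0, 1))
    rw [map_add B, AddMonoidHom.add_apply, map_add, map_add, hBaa, hBaa, zero_add, add_zero] at this
    linear_combination this - c * h.gen.two
  have hBval : ∀ v w : K × K, B v w = (v.1 * w.2 + v.2 * w.1) * c := fun v w => by
    conv_lhs => rw [hsplit v, hsplit w]
    rw [map_add B, AddMonoidHom.add_apply, map_add, map_add, hB2, hB2, hB2, hB2, hBaa, hBaa, hB21,
      ← hc]
    ring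
  have hc0 : c ≠ 0 := fun e => hnab fun x y => by
    obtain ⟨a, rfl⟩ := QuotientGroup.mk_surjective x
    obtain ⟨b, rfl⟩ := QuotientGroup.mk_surjective y
    have := hBf a (mem_top _) b (mem_top _)
    rw [hBval, e, mul_zero] at this
    refine commutatorElement_eq_one_iff_mul_comm.1 ?_
    exact (map_commutatorElement (QuotientGroup.mk' (center Q)) a b).symm.trans
      (hS.κ_inj _ (hcW a b) (eq_zero_of_pow_eq_zero this))
  -- the displaced vector
  obtain ⟨y₀, rfl⟩ := QuotientGroup.mk_surjective ū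
  set d := α y₀ * y₀⁻¹ with hd
  have hdW : d ∉ W := fun e => hū (by
    rw [hα', ← QuotientGroup.mk_inv, ← QuotientGroup.mk_mul]; exact e)
  have hgd : ∀ k, g k (q d) = 0 := fun k => by
    obtain ⟨w, hw, rfl⟩ := hps k
    rw [← hgf w hw d (mem_top _)]
    have hwz : w⁻¹ * α w ∈ center Q := QuotientGroup.eq.1 (by
      exact ((hα' w).symm.trans (hS.fix (hWmem.1 hw))).symm)
    have hw' : α w = w * (w⁻¹ * α w) := (mul_inv_cancel_left w _).symm
    have h1 : ⁅w, α y₀⁆ = ⁅w, y₀⁆ := by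
      calc ⁅w, α y₀⁆ = ⁅α w, α y₀⁆ := by
            rw [hw', comm_mul_left (b := w⁻¹ * α w) (by
              rw [commutatorElement_eq_one_iff_mul_comm.2 (mem_center_iff.1 hwz _).symm]
              exact one_mem _),
              commutatorElement_eq_one_iff_mul_comm.2 (mem_center_iff.1 hwz _).symm, mul_one]
        _ = α ⁅w, y₀⁆ := (map_commutatorElement α.toMonoidHom w y₀).symm
        _ = ⁅w, y₀⁆ := h.fix (hC2 w hw _)
    have h2 : κ ⁅w, α y₀⁆ = κ ⁅w, d⁆ + κ ⁅w, y₀⁆ := by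
      rw [← h.κ_mul _ (hC2 w hw _) _ (hC2 w hw _), ← comm_mul_right (hWc w hw _), hd,
        inv_mul_cancel_right]
    rw [h1] at h2
    have : κ ⁅w, d⁆ = 0 := by linear_combination -h2
    rw [this]
    simp
  have hu₀ : q d ≠ 0 := fun e => hdW (hq0 d e)
  obtain ⟨v, hv⟩ : ∃ v, B (q d) v ≠ 0 := by
    by_contra hno
    push Not at hno
    have h1 := hno (0, 1)
    have h2 := hno (1, 0)
    rw [hBval] at h1 h2
    simp only [mul_zero, mul_one, add_zero, zero_add, mul_eq_zero, hc0, or_false] at h1 h2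
    exact hu₀ (Prod.ext h1 h2)
  obtain ⟨t, ht0, ht1⟩ := h.big
  obtain ⟨X, -, hX⟩ := hqs (q d)
  obtain ⟨Y, -, hY⟩ := hqs v
  obtain ⟨Z, -, hZ⟩ := hqs (t ^ 2 • v)
  set w := ⁅X, Y⁆ with hwdef
  set a := ⁅Z, X⁆ with hadef
  set b := ⁅Z, Y⁆ with hbdef
  have hpb : p b = 0 := by
    refine eq_zero_of_pow_eq_zero (n := 2) ?_
    rw [hBf Z (mem_top _) Y (mem_top _), hY, hZ, hBval]
    simp only [Prod.smul_fst, Prod.smul_snd, smul_eq_mul]
    linear_combination t ^ 2 * v.1 * v.2 * c * h.gen.two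
  have hpa : p a = t * p w := by
    refine h.gen.sq_inj ?_
    rw [mul_pow, hBf Z (mem_top _) X (mem_top _), hBf X (mem_top _) Y (mem_top _), hX, hY, hZ, hBval,
      hBval]
    simp only [Prod.smul_fst, Prod.smul_snd, smul_eq_mul]
    ring
  have hbZ : b ∈ center Q := hp0 b (hcW Z Y) hpb
  have hjac : ⁅w, Z⁆ = ⁅a, Y⁆⁻¹ := by
    rw [← commutatorElement_inv Z w, inv_inj]
    have haW : a ∈ W := hcW Z X
    have e1 : Z * w * Z⁻¹ = ⁅a * X, b * Y⁆ := by
      show MulAut.conj Z ⁅X, Y⁆ = _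
      rw [map_commutatorElement, MulAut.conj_apply, MulAut.conj_apply, hadef, hbdef,
        commutatorElement_def Z X, commutatorElement_def Z Y, inv_mul_cancel_right,
        inv_mul_cancel_right]
    have e2 : ⁅a * X, b * Y⁆ = ⁅a, Y⁆ * w := by
      have hb1 : ∀ g, ⁅g, b * Y⁆ = ⁅g, Y⁆ := fun g => by
        rw [commutatorElement_def, commutatorElement_def, mul_inv_rev]
        calc g * (b * Y) * g⁻¹ * (Y⁻¹ * b⁻¹) = (g * b) * (Y * g⁻¹ * Y⁻¹) * b⁻¹ := by
              simp only [mul_assoc]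
          _ = (b * g) * (Y * g⁻¹ * Y⁻¹) * b⁻¹ := by rw [mem_center_iff.1 hbZ g]
          _ = (b * (g * (Y * g⁻¹ * Y⁻¹))) * b⁻¹ := by simp only [mul_assoc]
          _ = ((g * (Y * g⁻¹ * Y⁻¹)) * b) * b⁻¹ := by rw [mem_center_iff.1 hbZ]
          _ = g * Y * g⁻¹ * Y⁻¹ := by simp only [mul_assoc, mul_inv_cancel, mul_one]
      rw [hb1]
      calc ⁅a * X, Y⁆ = a * w * (Y * a⁻¹ * Y⁻¹) := by
            simp [hwdef, commutatorElement_def, mul_assoc]
        _ = w * a * (Y * a⁻¹ * Y⁻¹) := by rw [hWab a haW w (hcW X Y)]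
        _ = w * ⁅a, Y⁆ := by simp only [commutatorElement_def, mul_assoc]
        _ = ⁅a, Y⁆ * w := mem_center_iff.1 (hWc a haW Y) w
    rw [commutatorElement_def Z w, e1, e2, mul_inv_cancel_right]
  have hkey : κ ⁅w, Z⁆ = κ ⁅a, Y⁆ := by rw [hjac, h.inv_C (hC2 a (hcW Z X) Y)]
  have hcalc : g (p w) (t ^ 2 • v) = g (t * p w) v := by
    rw [← hpa, ← hY, ← hgf a (hcW Z X) Y (mem_top _), ← hkey, hgf w (hcW X Y) Z (mem_top _), hZ, hY]
  have hL : g 1 v = 0 := by
    have e1 := hg (p w) (t ^ 2) 1 v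
    have e2 := hg (t * p w) 1 1 v
    simp only [smul_eq_mul, mul_one, one_smul] at e1 e2
    rw [e1, e2] at hcalc
    have hpw : p w ≠ 0 := fun e => by
      have := hBf X (mem_top _) Y (mem_top _)
      rw [← hwdef, e, hX, hY] at this
      exact hv (by simpa using this.symm)
    have ht2 : t ^ 2 - t ≠ 0 := fun e => by
      rcases mul_eq_zero.1 (show t * (t - 1) = 0 by linear_combination e) with e' | e'
      · exact ht0 e'
      · exact ht1 (sub_eq_zero.1 e')
    have : (p w * (t ^ 2 - t)) * g 1 v = 0 := by linear_combination hcalc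
    exact (mul_eq_zero.1 this).resolve_left (mul_ne_zero hpw ht2)
  have hgz : ∀ k u', g k u' = 0 := by
    have e1 : ∀ u', g 1 u' = u'.1 * g 1 (1, 0) + u'.2 * g 1 (0, 1) := fun u' => by
      have hx := fun (r : K) (z : K × K) => hg 1 r 1 z
      simp only [one_smul, one_mul] at hx
      conv_lhs => rw [hsplit u']
      rw [map_add, hx, hx]
    have ed := hgd 1
    rw [e1] at ed hL
    rw [hBval] at hv
    have hdet : (q d).1 * v.2 + (q d).2 * v.1 ≠ 0 := fun e => hv (by rw [e, zero_mul])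
    have hA : g 1 (1, 0) = 0 := by
      refine (mul_eq_zero.1 (?_ : ((q d).1 * v.2 + (q d).2 * v.1) * g 1 (1, 0) = 0)).resolve_left hdet
      linear_combination v.2 * ed + (q d).2 * hL - (q d).2 * v.2 * g 1 (0, 1) * h.gen.two
    have hA' : g 1 (0, 1) = 0 := by
      refine (mul_eq_zero.1 (?_ : ((q d).1 * v.2 + (q d).2 * v.1) * g 1 (0, 1) = 0)).resolve_left hdet
      linear_combination v.1 * ed + (q d).1 * hL - (q d).1 * v.1 * g 1 (1, 0) * h.gen.two
    intro k u'
    have e2 := hg k 1 1 u'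
    simp only [smul_eq_mul, mul_one, one_smul] at e2
    rw [e2, e1, hA, hA']
    ring
  obtain ⟨a₁, ha₁, e₁⟩ := hps 1
  have hcen : a₁ ∈ center Q := mem_center_iff.2 fun y => by
    refine (commutatorElement_eq_one_iff_mul_comm.1 (h.κ_inj _ (hC2 a₁ ha₁ y) ?_)).symm
    have := hgf a₁ ha₁ y (mem_top _)
    rw [hgz] at this
    exact eq_zero_of_pow_eq_zero this
  refine one_ne_zero (α := K) ?_
  rw [← e₁]
  show κ' (a₁ : Q ⧸ center Q) = 0
  rw [(QuotientGroup.eq_one_iff a₁).2 hcen, hS.κ_one]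

theorem main_aux (n : ℕ) : ∀ (Q : Type u) [Group Q] [Finite Q] (α ρ : MulAut Q) (C : Subgroup Q)
    (κ : Q → K), Nat.card Q ≤ n → Sing Q K l α ρ C κ →
      (∀ a b : Q, a * b = b * a) ∨ Spec α ρ K l C := by
  induction n with
  | zero => intro Q _ _ α ρ C κ hn _; exact absurd hn (not_le.2 Nat.card_pos)
  | succ n ih =>
    intro Q _ _ α ρ C κ hn h
    by_cases hab : ∀ a b : Q, a * b = b * a
    · exact Or.inl hab
    right
    have hnc : center Q ≠ ⊤ := fun e => hab fun a b =>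
      (mem_center_iff.1 (e ▸ mem_top a : a ∈ center Q) b).symm
    obtain ⟨hCZ, hB, α', ρ', C', κ', hS, hα', hρ', hC', πZ, hπm, hπ0⟩ := h.setup hnc
    have hlt : Nat.card (Q ⧸ center Q) ≤ n := by
      have h1 := (center Q).card_eq_card_quotient_mul_card_subgroup
      have h2 : 2 ≤ Nat.card (center Q) := by
        refine le_trans ?_ (Subgroup.card_le_of_le hCZ)
        rw [h.card_C]
        exact h.one_lt
      have h3 : Nat.card (Q ⧸ center Q) * 2 ≤ Nat.card (Q ⧸ center Q) * Nat.card (center Q) :=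
        Nat.mul_le_mul_left _ h2
      have h4 := Nat.card_pos (α := Q ⧸ center Q)
      omega
    have hne : (⊤ : Subgroup (Q ⧸ center Q)) ≠ ⊥ := fun e => hS.C_ne_bot (le_bot_iff.1 (e ▸ le_top))
    by_cases hqab : ∀ a b : Q ⧸ center Q, a * b = b * a
    · rcases hS.abelian inv_top hne (fun a _ b _ => hqab a b) with hel | hcyc
      · exact h.spec_of_elem hCZ hB hS hα' hρ' hC' πZ hπm hπ0 hqab hel
      · exact (h.not_cyc hnc hB hρ' hqab hcyc).elim
    · rcases ih (Q ⧸ center Q) α' ρ' C' κ' hlt hS with hc | hspec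
      · exact absurd hc hqab
      · exact (h.not_three hCZ hB hS hα' hρ' hC' hspec hqab).elim

theorem Sing.main (h : Sing Q K l α ρ C κ) :
    (∀ a b : Q, a * b = b * a) ∨ Spec α ρ K l C :=
  main_aux (Nat.card Q) Q α ρ C κ le_rfl h

end Cfsg.Agent.SingerTwo
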