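import Cfsg.Agent.SingerTwo.Coord
import Cfsg.Agent.SingerTwo.Ext
import Cfsg.Agent.FPF64.Model
import Cfsg.Agent.PSU3Sylow.Heis

/-!
# The Sylow two-subgroups of the two rank-one extensions
-/

set_option autoImplicit false
set_option linter.unusedSectionVars false

namespace Cfsg.Agent.SingerTwo

open Subgroup Matrix Polynomial

variable {Q : Type*} [Group Q] [Finite Q] {C : Subgroup Q}

theorem iso_of_linear {K : Type} [Field K] [Fintype K] (h2 : (2 : K) = 0) {m : ℕ}
    (hm : Fintype.card K = 2 ^ m) (hm1 : 1 ≤ m) (hCZ : C ≤ center Q)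
    (hc : Coords C (fun v : K × K => v.1 * v.2)) :
    ∃ S : Sylow 2 (Matrix.ProjectiveSpecialLinearGroup (Fin 3) K),
      Nonempty (Q ≃* ↥(S : Subgroup (Matrix.ProjectiveSpecialLinearGroup (Fin 3) K))) := by
  haveI : Fact (Nat.Prime 2) := ⟨Nat.prime_two⟩
  obtain ⟨π, ι, hπm, hπs, hπ0, hιm, hιi, hιs, hsq⟩ := hc
  let pr : SpecialLinearGroup (Fin 3) K →* ProjectiveSpecialLinearGroup (Fin 3) K :=
    QuotientGroup.mk' _
  let U : Subgroup (ProjectiveSpecialLinearGroup (Fin 3) K) :=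
    { carrier := {x | ∃ a b c : K, pr (FPF64.ut a b c) = x}
      one_mem' := ⟨0, 0, 0, by rw [FPF64.ut_zero, map_one]⟩
      mul_mem' := by
        rintro _ _ ⟨a, b, c, rfl⟩ ⟨a', b', c', rfl⟩
        exact ⟨_, _, _, by rw [← map_mul, FPF64.ut_mul]⟩
      inv_mem' := by
        rintro _ ⟨a, b, c, rfl⟩
        refine ⟨-a, -b, a * b - c, (inv_eq_of_mul_eq_one_right ?_).symm⟩
        rw [← map_mul, FPF64.ut_mul, show a + -a = 0 by ring, show b + -b = 0 by ring,
          show c + (a * b - c) + a * -b = 0 by ring, FPF64.ut_zero, map_one] }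
  let mk : K × K × K → U := fun v => ⟨pr (FPF64.ut v.1 v.2.1 v.2.2), _, _, _, rfl⟩
  have hbij : Function.Bijective mk := by
    refine ⟨fun v w e => ?_, fun x => ?_⟩
    · obtain ⟨h1, h3, h4⟩ := FPF64.mk_injective (congrArg Subtype.val e)
      exact Prod.ext h1 (Prod.ext h3 h4)
    · obtain ⟨a, b, c, e⟩ := x.2
      exact ⟨(a, b, c), Subtype.ext e⟩
  let E := Equiv.ofBijective mk hbij
  have hmul : ∀ v w : K × K × K,
      mk v * mk w = mk (v.1 + w.1, v.2.1 + w.2.1, v.2.2 + w.2.2 + v.1 * w.2.1) := fun v w =>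
    Subtype.ext (by show pr _ * pr _ = pr _; rw [← map_mul, FPF64.ut_mul])
  have hcardU : Nat.card U = 2 ^ (m * 3) := by
    rw [← Nat.card_congr E, Nat.card_prod, Nat.card_prod, Nat.card_eq_fintype_card, hm, pow_mul]
    ring
  have hidx : ¬ 2 ∣ U.index := by
    intro hdvd
    have h1 := Classical.card_psl_mul (ι := Fin 3) (F := K)
    rw [Fintype.card_fin, hm, ← U.card_mul_index, hcardU] at h1
    have h3 := Classical.card_sl_mul (F := K) hm 3 (by norm_num)
    rw [← h1] at h3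
    simp [Fin.prod_univ_three] at h3
    set q := 2 ^ m with hq
    have hq2 : 2 ∣ q := dvd_pow_self 2 (by omega)
    have hq1 : 2 ≤ q := Nat.le_self_pow (by omega) 2
    rw [pow_mul, ← hq] at h3
    have e1 : q ^ 3 - q = q * (q ^ 2 - 1) := by
      rw [Nat.mul_sub_one, pow_succ', pow_two]
    have e2 : q ^ 3 - q ^ 2 = q ^ 2 * (q - 1) := by rw [Nat.mul_sub_one, pow_succ]
    rw [e1, e2] at h3
    have h4 : (q - 1) * (Nat.gcd 3 (q - 1) * U.index) = (q ^ 3 - 1) * (q ^ 2 - 1) * (q - 1) :=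
      Nat.eq_of_mul_eq_mul_left (show 0 < q ^ 3 by positivity) (by linarith)
    have hpow : ∀ j, 1 ≤ j → ¬ 2 ∣ q ^ j - 1 := fun j hj => by
      have : 2 ∣ q ^ j := hq2.trans (dvd_pow_self q (by omega))
      have : 1 ≤ q ^ j := Nat.one_le_pow _ _ (by omega)
      omega
    have : 2 ∣ (q ^ 3 - 1) * (q ^ 2 - 1) * (q - 1) :=
      h4 ▸ dvd_mul_of_dvd_right (dvd_mul_of_dvd_right hdvd _) _
    rcases Nat.prime_two.dvd_mul.1 this with h5 | h5
    · rcases Nat.prime_two.dvd_mul.1 h5 with h6 | h6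
      · exact hpow 3 (by norm_num) h6
      · exact hpow 2 (by norm_num) h6
    · exact hpow 1 le_rfl (by rwa [pow_one])
  have hE : ∀ v, E.symm (mk v) = v := E.symm_apply_apply
  let π₂ : U → K × K := fun x => ((E.symm x).1, (E.symm x).2.1)
  have hm₂ : ∀ x y : U, π₂ (x * y) = π₂ x + π₂ y := fun x y => by
    obtain ⟨v, rfl⟩ := hbij.2 x
    obtain ⟨w, rfl⟩ := hbij.2 y
    simp only [π₂, hmul, hE]
    rfl
  let C₂ : Subgroup U :=
    { carrier := {x | π₂ x = 0}
      one_mem' := by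
        have := hm₂ 1 1
        rw [one_mul] at this
        exact left_eq_add.1 this
      mul_mem' := fun {x y} (hx : π₂ x = 0) (hy : π₂ y = 0) =>
        show π₂ (x * y) = 0 by rw [hm₂, hx, hy, add_zero]
      inv_mem' := fun {x} (hx : π₂ x = 0) => by
        show π₂ x⁻¹ = 0
        have := hm₂ x x⁻¹
        rw [mul_inv_cancel, hx, zero_add] at this
        rw [← this]
        have h11 := hm₂ 1 1
        rw [one_mul] at h11
        exact left_eq_add.1 h11 }
  have hC₂ : ∀ v : K × K × K, mk v ∈ C₂ ↔ v.1 = 0 ∧ v.2.1 = 0 := fun v => by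
    show π₂ (mk v) = 0 ↔ _
    simp [π₂, hE, Prod.ext_iff]
  have hh : ∀ v : K × K, v + v = 0 := fun v => by
    ext <;> simp only [Prod.fst_add, Prod.snd_add, Prod.fst_zero, Prod.snd_zero]
    · linear_combination v.1 * h2
    · linear_combination v.2 * h2
  obtain ⟨e⟩ := ext_iso hh C C₂ hCZ (fun x hx => mem_center_iff.2 fun y => by
      obtain ⟨v, rfl⟩ := hbij.2 x
      obtain ⟨w, rfl⟩ := hbij.2 y
      obtain ⟨ha, hb⟩ := (hC₂ v).1 hx
      rw [hmul, hmul, ha, hb]
      congr 1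
      ext <;> simp [add_comm])
    π π₂ hπm hπs hπ0 hm₂ (fun v => ⟨mk (v.1, v.2, 0), by simp [π₂, hE]⟩) (fun x => Iff.rfl)
    (fun x => mk (0, 0, ι x))
    (fun x hx y hy => by rw [hmul, hιm x hx y hy]; simp)
    (fun x _ => (hC₂ _).2 ⟨rfl, rfl⟩)
    (fun x hx e => by
      have h1 : mk (0, 0, ι x) = mk (0, 0, 0) :=
        e.trans (Subtype.ext (by show (1 : _) = pr _; rw [FPF64.ut_zero, map_one]))
      exact hιi x hx (congrArg (fun v => v.2.2) (hbij.1 h1)))
    (fun y hy => by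
      obtain ⟨v, rfl⟩ := hbij.2 y
      obtain ⟨ha, hb⟩ := (hC₂ v).1 hy
      obtain ⟨x, hx, e⟩ := hιs v.2.2
      exact ⟨x, hx, congrArg mk (Prod.ext ha.symm (Prod.ext hb.symm e))⟩)
    (fun x y e => by
      obtain ⟨v, rfl⟩ := hbij.2 y
      rw [hmul, hsq, e]
      refine congrArg mk (Prod.ext ?_ (Prod.ext ?_ ?_)) <;> simp only [π₂, hE]
      · linear_combination -v.1 * h2
      · linear_combination -v.2.1 * h2
      · linear_combination -v.2.2 * h2)
  exact ⟨(IsPGroup.of_card hcardU).toSylow hidx, ⟨e⟩⟩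

theorem iso_of_unitary {K : Type} [Field K] [Fintype K] (h2 : (2 : K) = 0) {m : ℕ}
    (hm : Fintype.card K = 2 ^ m) (hm1 : 1 ≤ m) (hCZ : C ≤ center Q) (d : K)
    (hd : ∀ t : K, t ^ 2 + t + d ≠ 0)
    (hc : Coords C (fun v : K × K => v.1 ^ 2 + v.1 * v.2 + d * v.2 ^ 2)) :
    ∃ (F : Type) (_ : Field F) (_ : Fintype F), Fintype.card F = (2 ^ m) ^ 2 ∧
      ∀ S : Sylow 2 (Cfsg.PSU 3 F (2 ^ m)),
        Nonempty (Q ≃* ↥(S : Subgroup (Cfsg.PSU 3 F (2 ^ m)))) := by
  obtain ⟨π, ι, hπm, hπs, hπ0, hιm, hιi, hιs, hsq⟩ := hc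
  set f : K[X] := X ^ 2 + (X + Polynomial.C d) with hf
  have hdeg : f.natDegree = 2 := by
    rw [hf]; compute_degree!
  have hmon : f.Monic := by
    rw [hf]; monicity!
  have hirr : Irreducible f := by
    rw [hmon.irreducible_iff_roots_eq_zero_of_degree_le_three (by omega) (by omega),
      Multiset.eq_zero_iff_forall_notMem]
    intro t ht
    rw [mem_roots hmon.ne_zero, IsRoot.def, hf] at ht
    simp only [eval_add, eval_pow, eval_X, eval_C] at ht
    exact hd t (by linear_combination ht)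
  haveI : Fact (Irreducible f) := ⟨hirr⟩
  let F := AdjoinRoot f
  let φ : K →+* F := AdjoinRoot.of f
  set ω : F := AdjoinRoot.root f with hω
  haveI : Module.Finite K F := hmon.finite_adjoinRoot
  haveI : Finite F := Module.finite_of_finite K
  letI : Fintype F := Fintype.ofFinite F
  have hcard : Fintype.card F = (2 ^ m) ^ 2 := by
    rw [Module.card_eq_pow_finrank (K := K), hm,
      (AdjoinRoot.powerBasis hmon.ne_zero).finrank, AdjoinRoot.powerBasis_dim, hdeg]
  have hroot : ω ^ 2 + (ω + φ d) = 0 := by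
    have := AdjoinRoot.eval₂_root f
    simpa [hf] using this
  have h2F : (2 : F) = 0 := by rw [← map_ofNat φ 2, h2, map_zero]
  haveI : CharP F 2 := CharTwo.of_one_ne_zero_of_two_eq_zero one_ne_zero h2F
  have hne : ∀ t, φ t ≠ ω := fun t e => hd t (φ.injective (by
    rw [map_add, map_add, map_pow, e, map_zero]; linear_combination hroot))
  have hinj : Function.Injective (fun v : K × K => φ v.1 + φ v.2 * ω) := fun v w e => by
    simp only at e
    by_cases hb : v.2 = w.2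
    · rw [hb] at e
      exact Prod.ext (φ.injective (add_right_cancel e)) hb
    · refine absurd ?_ (hne ((w.1 - v.1) / (v.2 - w.2)))
      have : φ (v.2 - w.2) ≠ 0 := fun e0 => hb (sub_eq_zero.1 (φ.injective (by rw [e0, map_zero])))
      rw [map_div₀, div_eq_iff this, map_sub, map_sub]
      linear_combination -e
  have hbijF : Function.Bijective (fun v : K × K => φ v.1 + φ v.2 * ω) :=
    (Fintype.bijective_iff_injective_and_card _).2 ⟨hinj, by rw [Fintype.card_prod, hm, hcard, sq]⟩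
  obtain ⟨σ, hu⟩ := AutPSU.exists_uctx (F := F) hcard
  have hσφ : ∀ a : K, σ (φ a) = φ a := fun a => by
    rw [hu.pow, ← map_pow, ← hm, FiniteField.pow_card]
  have hfix : ∀ x : F, σ x = x → ∃ a : K, φ a = x := by
    intro x hx
    haveI : Finite (Classical.Herm.fixField σ) :=
      Nat.finite_of_card_ne_zero (by rw [hu.card_fix]; positivity)
    have : Function.Bijective (fun a : K => (⟨φ a, hσφ a⟩ : Classical.Herm.fixField σ)) := by
      refine (Nat.bijective_iff_injective_and_card _).2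
        ⟨fun a b e => φ.injective (congrArg Subtype.val e), ?_⟩
      rw [hu.card_fix, Nat.card_eq_fintype_card, hm]
    obtain ⟨a, ha⟩ := this.2 ⟨x, hx⟩
    exact ⟨a, congrArg Subtype.val ha⟩
  have hσω : σ ω = ω + 1 := by
    have h1 : σ ω ^ 2 + (σ ω + φ d) = 0 := by
      have := congrArg σ hroot
      rwa [map_add, map_add, map_pow, hσφ, map_zero] at this
    have : (σ ω + ω) * (σ ω + ω + 1) = 0 := by
      linear_combination h1 + hroot + (σ ω * ω - φ d) * h2F
    rcases mul_eq_zero.1 this with e | e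
    · obtain ⟨a, ha⟩ := hfix ω (by linear_combination e - ω * h2F)
      exact absurd ha (hne a)
    · linear_combination e - (ω + 1) * h2F
  have hH : Finite (PSU3Sylow.Heis hu) := Nat.finite_of_card_ne_zero (by
    rw [PSU3Sylow.Heis.card_eq]; positivity)
  let π₂ : PSU3Sylow.Heis hu → K × K := fun a => (Equiv.ofBijective _ hbijF).symm a.x
  have hπ₂x : ∀ a, φ (π₂ a).1 + φ (π₂ a).2 * ω = a.x := fun a =>
    (Equiv.ofBijective _ hbijF).apply_symm_apply a.x
  let C₂ : Subgroup (PSU3Sylow.Heis hu) :=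
    { carrier := {a | a.x = 0}
      one_mem' := rfl
      mul_mem' := fun {a b} (ha : a.x = 0) (hb : b.x = 0) =>
        show a.x + b.x = 0 by rw [ha, hb, add_zero]
      inv_mem' := fun {a} (ha : a.x = 0) => show a.x = 0 from ha }
  have hnorm : ∀ v : K × K, σ (φ v.1 + φ v.2 * ω) * (φ v.1 + φ v.2 * ω) =
      φ (v.1 ^ 2 + v.1 * v.2 + d * v.2 ^ 2) := fun v => by
    rw [map_add σ, map_mul σ, hσφ, hσφ, hσω]
    simp only [map_add, map_mul, map_pow]
    linear_combination φ v.2 ^ 2 * hroot + (φ v.1 * φ v.2 * ω - φ d * φ v.2 ^ 2) * h2F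
  have hh : ∀ v : K × K, v + v = 0 := fun v => by
    ext <;> simp only [Prod.fst_add, Prod.snd_add, Prod.fst_zero, Prod.snd_zero]
    · linear_combination v.1 * h2
    · linear_combination v.2 * h2
  obtain ⟨e⟩ := ext_iso hh C C₂ hCZ
    (fun a ha => (PSU3Sylow.Heis.mem_center_iff_x a).2 ha) π π₂ hπm hπs hπ0
    (fun a b => hinj (by
      show φ (π₂ (a * b)).1 + φ (π₂ (a * b)).2 * ω =
        φ ((π₂ a).1 + (π₂ b).1) + φ ((π₂ a).2 + (π₂ b).2) * ω
      rw [hπ₂x, map_add, map_add, PSU3Sylow.Heis.mul_x, ← hπ₂x a, ← hπ₂x b]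
      ring))
    (fun v => by
      obtain ⟨a, ha⟩ := PSU3Sylow.Heis.exists_lift (hu := hu) (φ v.1 + φ v.2 * ω)
      exact ⟨a, hinj ((hπ₂x a).trans ha)⟩)
    (fun a => by
      refine ⟨fun e => ?_, fun ha => hinj ?_⟩
      · show a.x = 0
        rw [← hπ₂x a, e]; simp
      · show φ (π₂ a).1 + φ (π₂ a).2 * ω = φ 0 + φ 0 * ω
        rw [hπ₂x, show a.x = 0 from ha]; simp)
    (fun x => PSU3Sylow.Heis.zc (φ (ι x)) (hσφ _))
    (fun x hx y hy => PSU3Sylow.Heis.ext (by simp [PSU3Sylow.Heis.zc])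
      (by simp [PSU3Sylow.Heis.zc, hιm x hx y hy]))
    (fun x _ => rfl)
    (fun x hx e => hιi x hx (φ.injective ((congrArg PSU3Sylow.Heis.d e).trans (map_zero φ).symm)))
    (fun a ha => by
      obtain ⟨k, hk⟩ := hfix a.d (PSU3Sylow.Heis.sigma_of_x_zero a ha)
      obtain ⟨x, hx, e⟩ := hιs k
      exact ⟨x, hx, PSU3Sylow.Heis.ext (Eq.symm ha) (by show φ (ι x) = a.d; rw [e, hk])⟩)
    (fun x a e => by
      rw [PSU3Sylow.Heis.mul_self]
      refine PSU3Sylow.Heis.ext rfl ?_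
      show φ (ι (x * x)) = σ a.x * a.x
      rw [hsq, e, ← hπ₂x a, hnorm])
  refine ⟨F, inferInstance, inferInstance, hcard, fun S => ?_⟩
  obtain ⟨g⟩ := PSU3Sylow.exists_equiv hu hm1 rfl S
  exact ⟨e.trans g.symm⟩

end Cfsg.Agent.SingerTwo
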